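import Mathlib
import Cfsg.Agent.Lib.Helper6.M12Enum

set_option autoImplicit false

/-! # Conjugacy classes of involutions and of elements of order three in `M24`
(generated by `tools/gen_m24class.py`) -/

namespace Cfsg.Agent.Lib.Helper6.Cls

open Cfsg Cfsg.Agent.Lib.Helper6.Golay Cfsg.Agent.Lib.Helper6.M24 Cfsg.Agent.Lib.Helper6.M12
open scoped Pointwise

/-! ### permutations acting on indices -/

/-- `σ` acts on the indices `0,..,23` of the points by the function `f` -/
def Acts (σ : Equiv.Perm GolayPt) (f : ℕ → ℕ) : Prop :=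
  ∀ j, j < 24 → f j < 24 ∧ σ (pt j) = pt (f j)

theorem acts_code (c : ℕ) (hv : tabValid (decodeTab c) = true) :
    Acts (tabPerm (decodeTab c) hv) (evC c) :=
  fun _ hj => ⟨evC_lt c hv hj, tabPerm_decode_pt c hv hj⟩

theorem Acts.mul {σ τ : Equiv.Perm GolayPt} {f f' : ℕ → ℕ} (h : Acts σ f) (h' : Acts τ f') :
    Acts (σ * τ) (fun j => f (f' j)) := by
  intro j hj
  obtain ⟨h1, h2⟩ := h' j hj
  obtain ⟨h3, h4⟩ := h (f' j) h1
  refine ⟨h3, ?_⟩
  show σ (τ (pt j)) = _
  rw [h2, h4]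

theorem Acts.idx_apply {σ : Equiv.Perm GolayPt} {f : ℕ → ℕ} (h : Acts σ f) (p : GolayPt) :
    idx (σ p) = f (idx p) := by
  obtain ⟨h1, h2⟩ := h (idx p) (idx_lt p)
  rw [pt_idx] at h2
  rw [h2, idx_pt h1]

theorem Acts.eq_of {σ τ : Equiv.Perm GolayPt} {f f' : ℕ → ℕ} (h : Acts σ f) (h' : Acts τ f')
    (e : ∀ j, j < 24 → f j = f' j) : σ = τ := by
  apply Equiv.ext
  intro p
  have h1 := h.idx_apply p
  have h2 := h'.idx_apply p
  rw [e _ (idx_lt p), ← h2] at h1
  have := congrArg pt h1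
  rwa [pt_idx, pt_idx] at this

theorem acts_one : Acts 1 (fun j => j) := fun _ hj => ⟨hj, rfl⟩

theorem Acts.fixed_iff {σ : Equiv.Perm GolayPt} {f : ℕ → ℕ} (h : Acts σ f) (p : GolayPt) :
    σ p = p ↔ f (idx p) = idx p := by
  rw [← h.idx_apply p]
  constructor
  · intro e; rw [e]
  · intro e
    have := congrArg pt e
    rwa [pt_idx, pt_idx] at this

theorem pt_injective {i j : ℕ} (hi : i < 24) (hj : j < 24) (h : pt i = pt j) : i = j := by
  have := congrArg idx h
  rwa [idx_pt hi, idx_pt hj] at this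

theorem chk_of_forall {f : ℕ → Bool} : ∀ {n : ℕ}, (∀ k, k < n → f k = true) → chk f n = true
  | 0, _ => rfl
  | n + 1, h => by
    show (f n && chk f n) = true
    rw [h n (Nat.lt_succ_self n), chk_of_forall (fun k hk => h k (Nat.lt_succ_of_lt hk))]
    rfl

/-! ### codes of elements of `M24` -/

/-- `c` codes an element of `M24` -/
def inM24c (c : ℕ) : Bool := stabCode 0 [] c

theorem inM24c_spec {c : ℕ} (h : inM24c c = true) :
    ∃ hv : tabValid (decodeTab c) = true, tabPerm (decodeTab c) hv ∈ M24 := by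
  obtain ⟨hv, hmem, -⟩ := stabCode_spec' h
  rw [fixG_zero] at hmem
  exact ⟨hv, hmem⟩

/-- the codes of the `48` elements fixing the points `0,..,4` -/
def L48c : List ℕ := [1383171691763700179920714943059671, 1383172082447510637106219585313265, 1383172278216576360995578812285582, 1383172891401819351497925970215467, 1383173323170028091455882964424297, 1383173513892431058476150135756214, 1383175834871790442279432966818544, 1383175869710984784094122998028975, 1383176030783708899825253241046323, 1383176918262959141355933813947051, 1383176953457498879291239524744950, 1383176998090833791371916995114246, 1383179628255338492633337189454358, 1383179664643723541236583713168969, 1383179777257914231967535563558342, 1383181714869755101637339527101652, 1383181910830063992983779866256949, 1383181943576247981374454614243954, 1383182949692971597806128582964593, 1383183110609858777762991480258117, 1383183185511495619244185610462743, 1383184193645634810982763402017488,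 1383184342544335767421905148782216, 1383184384209854630468458559190195, 1383185274099671297246308323644872, 1383185315617343236532617522648431, 1383185889733268859198866005006931, 1383186628502711617678067901880933, 1383187017368161092709181552173495, 1383187166318781587678303161338062, 1383187862291716020833751290824205, 1383188216830361723746564768651732, 1383188408147759813783011269812597, 1383189222888038456650356023155912, 1383189564760327817502109545475504, 1383189684730933258709567198908975, 1383190458255737974316393118027469, 1383190763814034529812195347455477, 1383190924872595002531814000241842, 1383191466588237316377014256835309, 1383191502660227275211958476095794, 1383191886196588842947966721037588, 1383192820395085796882321459792363, 1383193162793914398063259123425449, 1383193205019035976219329965508230, 1383194168392332910336290281148709, 1383194481610457405596984935755022, 1383194522256865425123148539645617]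

theorem L48c_eq : L48c.map decodeTab = L48 := by decide +kernel

theorem fixG_31_enum_c {σ : Equiv.Perm GolayPt} (hσ : σ ∈ fixG 31) :
    ∃ l ∈ L48c, ∃ hv : tabValid (decodeTab l) = true, σ = tabPerm (decodeTab l) hv := by
  obtain ⟨t, ht, hv, rfl⟩ := fixG_31_enum hσ
  rw [← L48c_eq, List.mem_map] at ht
  obtain ⟨l, hl, rfl⟩ := ht
  exact ⟨l, hl, hv, rfl⟩

theorem testBit_31 (j : ℕ) : (31 : ℕ).testBit j = decide (j < 5) := by
  rw [show (31 : ℕ) = 2 ^ 5 - 1 by norm_num, Nat.testBit_two_pow_sub_one]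

/-- normal form: an element of `M24` acting on `0,..,4` like the coded element `t` is `t`
times one of the `48` listed elements -/
theorem normal5 {g : Equiv.Perm GolayPt} (hg : g ∈ M24) {t : ℕ} (ht : inM24c t = true)
    (h : ∀ i, i < 5 → g (pt i) = pt (evC t i)) :
    ∃ l ∈ L48c, Acts g (fun j => evC t (evC l j)) := by
  obtain ⟨hv, htM⟩ := inM24c_spec ht
  have key : ∀ j, j < 5 → (tabPerm (decodeTab t) hv)⁻¹ (g (pt j)) = pt j := by
    intro j hj
    rw [Equiv.Perm.inv_eq_iff_eq, h j hj, tabPerm_decode_pt t hv (by omega)]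
  have hmem : (tabPerm (decodeTab t) hv)⁻¹ * g ∈ fixG 31 := by
    refine ⟨Subgroup.mul_mem _ (Subgroup.inv_mem _ htM) hg, ?_⟩
    intro q hq
    rw [testBit_31] at hq
    have hq5 : idx q < 5 := by simpa using hq
    have := key (idx q) hq5
    rwa [pt_idx] at this
  obtain ⟨l, hl, hlv, e⟩ := fixG_31_enum_c hmem
  refine ⟨l, hl, ?_⟩
  have e2 : g = tabPerm (decodeTab t) hv * tabPerm (decodeTab l) hlv := by
    rw [← e]; group
  rw [e2]
  exact (acts_code t hv).mul (acts_code l hlv)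

/-- normal form: an element of `M24` acting on `0,..,3` like the coded element `t` is `t`
times one of the `960` listed elements -/
theorem normal4 {g : Equiv.Perm GolayPt} (hg : g ∈ M24) {t : ℕ} (ht : inM24c t = true)
    (h : ∀ i, i < 4 → g (pt i) = pt (evC t i)) :
    ∃ l ∈ L960c, Acts g (fun j => evC t (evC l j)) := by
  obtain ⟨hv, htM⟩ := inM24c_spec ht
  have key : ∀ j, j < 4 → (tabPerm (decodeTab t) hv)⁻¹ (g (pt j)) = pt j := by
    intro j hj
    rw [Equiv.Perm.inv_eq_iff_eq, h j hj, tabPerm_decode_pt t hv (by omega)]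
  have hmem : (tabPerm (decodeTab t) hv)⁻¹ * g ∈ fixG 15 := by
    refine ⟨Subgroup.mul_mem _ (Subgroup.inv_mem _ htM) hg, ?_⟩
    intro q hq
    rw [testBit_15] at hq
    have hq4 : idx q < 4 := by simpa using hq
    have := key (idx q) hq4
    rwa [pt_idx] at this
  obtain ⟨l, hl, hlv, e⟩ := fixG_15_enum hmem
  refine ⟨l, hl, ?_⟩
  have e2 : g = tabPerm (decodeTab t) hv * tabPerm (decodeTab l) hlv := by
    rw [← e]; group
  rw [e2]
  exact (acts_code t hv).mul (acts_code l hlv)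

/-! ### conjugation certificates -/

/-- `w * (t * l) = u * w` on all points -/
def conjOK (w t l u : ℕ) : Bool :=
  chk (fun j => Nat.beq (evC w (evC t (evC l j))) (evC u (evC w j))) 24

theorem conj_of_check {g : Equiv.Perm GolayPt} {t l u w : ℕ}
    (hg : Acts g (fun j => evC t (evC l j))) (hw : inM24c w = true)
    (hu : tabValid (decodeTab u) = true) (h : conjOK w t l u = true) :
    ∃ k ∈ M24, k * g * k⁻¹ = tabPerm (decodeTab u) hu := by
  obtain ⟨hv, hwM⟩ := inM24c_spec hw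
  refine ⟨tabPerm (decodeTab w) hv, hwM, ?_⟩
  have e : tabPerm (decodeTab w) hv * g = tabPerm (decodeTab u) hu * tabPerm (decodeTab w) hv :=
    Acts.eq_of ((acts_code w hv).mul hg) ((acts_code u hu).mul (acts_code w hv))
      (fun j hj => Nat.eq_of_beq_eq_true (chk_spec h j hj))
  rw [e, mul_inv_cancel_right]

/-- simultaneous check along two lists -/
def chk2 (f : ℕ → ℕ → Bool) : List ℕ → List ℕ → Bool
  | [], _ => true
  | _ :: _, [] => false
  | l :: L, w :: W => and (f l w) (chk2 f L W)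

theorem chk2_spec (f : ℕ → ℕ → Bool) : ∀ (L W : List ℕ), chk2 f L W = true →
    ∀ l ∈ L, ∃ w, f l w = true
  | [], _, _, l, hl => absurd hl (by simp)
  | _ :: _, [], h, _, _ => absurd h (by simp [chk2])
  | a :: L, w :: W, h, l, hl => by
    have h' : f a w = true ∧ chk2 f L W = true := by
      simpa [chk2] using h
    rcases List.mem_cons.1 hl with rfl | hl'
    · exact ⟨w, h'.1⟩
    · exact chk2_spec f L W h'.2 l hl'

/-- the product `t * l` squares to the identity -/
def sqId (t l : ℕ) : Bool :=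
  chk (fun j => Nat.beq (evC t (evC l (evC t (evC l j)))) j) 24

/-- the product `t * l` cubes to the identity -/
def cubeId (t l : ℕ) : Bool :=
  chk (fun j => Nat.beq (evC t (evC l (evC t (evC l (evC t (evC l j)))))) j) 24

/-- the product `t * l` has a fixed point -/
def anyFix (t l : ℕ) : Bool :=
  not (chk (fun j => not (Nat.beq (evC t (evC l j)) j)) 24)

theorem sqId_of {g : Equiv.Perm GolayPt} {t l : ℕ} (hg : Acts g (fun j => evC t (evC l j)))
    (h2 : g * g = 1) : sqId t l = true := by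
  apply chk_of_forall
  intro j hj
  have h1 := (hg.mul hg) j hj
  rw [h2] at h1
  have : pt j = pt (evC t (evC l (evC t (evC l j)))) := h1.2
  have e : j = evC t (evC l (evC t (evC l j))) := pt_injective hj h1.1 this
  show Nat.beq (evC t (evC l (evC t (evC l j)))) j = true
  rw [← e]
  exact Nat.beq_refl _

theorem cubeId_of {g : Equiv.Perm GolayPt} {t l : ℕ} (hg : Acts g (fun j => evC t (evC l j)))
    (h3 : g * (g * g) = 1) : cubeId t l = true := by
  apply chk_of_forall
  intro j hj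
  have h1 := (hg.mul (hg.mul hg)) j hj
  rw [h3] at h1
  have : pt j = pt (evC t (evC l (evC t (evC l (evC t (evC l j)))))) := h1.2
  have e : j = evC t (evC l (evC t (evC l (evC t (evC l j))))) := pt_injective hj h1.1 this
  show Nat.beq (evC t (evC l (evC t (evC l (evC t (evC l j)))))) j = true
  rw [← e]
  exact Nat.beq_refl _

theorem anyFix_iff {g : Equiv.Perm GolayPt} {t l : ℕ} (hg : Acts g (fun j => evC t (evC l j))) :
    anyFix t l = true ↔ ∃ p, g p = p := by
  unfold anyFix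
  constructor
  · intro h
    by_contra hc
    push Not at hc
    have : chk (fun j => not (Nat.beq (evC t (evC l j)) j)) 24 = true := by
      apply chk_of_forall
      intro j hj
      have h1 := hc (pt j)
      rw [Ne, hg.fixed_iff, idx_pt hj] at h1
      cases hb : Nat.beq (evC t (evC l j)) j
      · rfl
      · exact absurd (Nat.eq_of_beq_eq_true hb) h1
    rw [this] at h
    exact absurd h (by decide)
  · rintro ⟨p, hp⟩
    rw [hg.fixed_iff] at hp
    cases hb : chk (fun j => not (Nat.beq (evC t (evC l j)) j)) 24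
    · rfl
    · have h1 := chk_spec hb (idx p) (idx_lt p)
      rw [hp, Nat.beq_refl] at h1
      exact absurd h1 (by decide)

/-! ### non-identity elements fix at most eight points -/

/-- the code `l` is the identity or fixes at most eight points -/
def fixLe8 (l : ℕ) : Bool :=
  or (chk (fun j => Nat.beq (evC l j) j) 24)
    (Nat.ble (cnt (fun j => Nat.beq (evC l j) j) 24) 8)

theorem fixLe8_check : L48c.all fixLe8 = true := by decide +kernel

theorem card_fixed_eq {σ : Equiv.Perm GolayPt} {f : ℕ → ℕ} (h : Acts σ f) :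
    (Finset.univ.filter fun p => σ p = p).card = cnt (fun j => Nat.beq (f j) j) 24 := by
  rw [cnt_spec]
  apply Finset.card_bij (fun p _ => idx p)
  · intro p hp
    rw [Finset.mem_filter] at hp ⊢
    refine ⟨Finset.mem_range.2 (idx_lt p), ?_⟩
    rw [(h.fixed_iff p).1 hp.2]
    exact Nat.beq_refl _
  · intro p _ q _ e
    have := congrArg pt e
    rwa [pt_idx, pt_idx] at this
  · intro j hj
    rw [Finset.mem_filter, Finset.mem_range] at hj
    refine ⟨pt j, ?_, idx_pt hj.1⟩
    rw [Finset.mem_filter]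
    refine ⟨Finset.mem_univ _, ?_⟩
    rw [h.fixed_iff, idx_pt hj.1]
    exact Nat.eq_of_beq_eq_true hj.2

theorem card_fixed_conj (k g : Equiv.Perm GolayPt) :
    (Finset.univ.filter fun p => (k * g * k⁻¹) p = p).card =
      (Finset.univ.filter fun p => g p = p).card := by
  symm
  apply Finset.card_bij (fun p _ => k p)
  · intro p hp
    rw [Finset.mem_filter] at hp ⊢
    refine ⟨Finset.mem_univ _, ?_⟩
    show k (g (k⁻¹ (k p))) = k p
    rw [show k⁻¹ (k p) = p by simp, hp.2]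
  · intro p _ q _ e
    exact k.injective e
  · intro q hq
    rw [Finset.mem_filter] at hq
    refine ⟨k⁻¹ q, ?_, by simp⟩
    rw [Finset.mem_filter]
    refine ⟨Finset.mem_univ _, ?_⟩
    have h1 : k (g (k⁻¹ q)) = q := hq.2
    exact Equiv.Perm.eq_inv_iff_eq.2 h1

/-- a non-identity element of `M24` fixes at most eight points -/
theorem card_fixed_le_eight {σ : Equiv.Perm GolayPt} (hσ : σ ∈ M24) (hne : σ ≠ 1) :
    (Finset.univ.filter fun p => σ p = p).card ≤ 8 := by
  by_contra hc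
  obtain ⟨x, hx⟩ := Cfsg.Agent.Lib.Helper7.exists_embedding_of_card (n := 5)
    (s := Finset.univ.filter fun p => σ p = p) (by omega)
  obtain ⟨k, hk, hkx⟩ := Cfsg.Agent.Lib.Helper7.M24_exists_smul_eq (le_refl 5) x base5
  have hmem : k * σ * k⁻¹ ∈ fixG 31 := by
    refine ⟨Subgroup.mul_mem _ (Subgroup.mul_mem _ hk hσ) (Subgroup.inv_mem _ hk), ?_⟩
    intro q hq
    rw [testBit_31] at hq
    have hq5 : idx q < 5 := by simpa using hq
    have e1 : k (x ⟨idx q, hq5⟩) = q := by
      rw [hkx]; exact pt_idx q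
    have e2 : σ (x ⟨idx q, hq5⟩) = x ⟨idx q, hq5⟩ := (Finset.mem_filter.1 (hx _)).2
    show k (σ (k⁻¹ q)) = q
    rw [← e1, show k⁻¹ (k (x ⟨idx q, hq5⟩)) = x ⟨idx q, hq5⟩ by simp, e2]
  obtain ⟨l, hl, hlv, e⟩ := fixG_31_enum_c hmem
  have hchk := List.all_eq_true.1 fixLe8_check l hl
  unfold fixLe8 at hchk
  rw [Bool.or_eq_true] at hchk
  have hA := acts_code l hlv
  rw [← e] at hA
  rcases hchk with h1 | h1
  · apply hne
    have h2 : k * σ * k⁻¹ = 1 :=
      Acts.eq_of hA acts_one (fun j hj => Nat.eq_of_beq_eq_true (chk_spec h1 j hj))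
    have : σ = k⁻¹ * (k * σ * k⁻¹) * k := by group
    rw [this, h2]; group
  · apply hc
    rw [← card_fixed_conj k σ, card_fixed_eq hA]
    exact Nat.le_of_ble_eq_true h1

/-! ### the standard elements -/

/-- an involution fixing the point `0` and interchanging `1,2` and `3,4` -/
def uA : ℕ := 2641917015765713024148741867321967

/-- a fixed-point-free involution interchanging `0,1` and `2,3` -/
def uB : ℕ := 41662859824895895607615629816242417

/-- an element of order three with six fixed points, mapping `0,1,2,3` to `1,2,0,4` -/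
def vA : ℕ := 44139997980209971843640900498073288

/-- a fixed-point-free element of order three, mapping `0,1,2,3` to `1,2,0,4` -/
def vB : ℕ := 44140514064941762292520509606702243

theorem uA_mem : inM24c uA = true := by decide +kernel
theorem uB_mem : inM24c uB = true := by decide +kernel
theorem vA_mem : inM24c vA = true := by decide +kernel
theorem vB_mem : inM24c vB = true := by decide +kernel

theorem uA_valid : tabValid (decodeTab uA) = true := (inM24c_spec uA_mem).1
theorem uB_valid : tabValid (decodeTab uB) = true := (inM24c_spec uB_mem).1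
theorem vA_valid : tabValid (decodeTab vA) = true := (inM24c_spec vA_mem).1
theorem vB_valid : tabValid (decodeTab vB) = true := (inM24c_spec vB_mem).1

/-- the standard involution with eight fixed points -/
noncomputable def UA : Equiv.Perm GolayPt := tabPerm (decodeTab uA) uA_valid
/-- the standard fixed-point-free involution -/
noncomputable def UB : Equiv.Perm GolayPt := tabPerm (decodeTab uB) uB_valid
/-- the standard element of order three with six fixed points -/
noncomputable def VA : Equiv.Perm GolayPt := tabPerm (decodeTab vA) vA_valid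
/-- the standard fixed-point-free element of order three -/
noncomputable def VB : Equiv.Perm GolayPt := tabPerm (decodeTab vB) vB_valid

theorem UA_mem : UA ∈ M24 := (inM24c_spec uA_mem).2
theorem UB_mem : UB ∈ M24 := (inM24c_spec uB_mem).2
theorem VA_mem : VA ∈ M24 := (inM24c_spec vA_mem).2
theorem VB_mem : VB ∈ M24 := (inM24c_spec vB_mem).2

theorem UA_acts : Acts UA (evC uA) := acts_code uA uA_valid
theorem UB_acts : Acts UB (evC uB) := acts_code uB uB_valid
theorem VA_acts : Acts VA (evC vA) := acts_code vA vA_valid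
theorem VB_acts : Acts VB (evC vB) := acts_code vB vB_valid

theorem UA_sq : UA * UA = 1 :=
  Acts.eq_of (UA_acts.mul UA_acts) acts_one
    (fun j hj => Nat.eq_of_beq_eq_true
      (chk_spec (by decide +kernel : chk (fun j => Nat.beq (evC uA (evC uA j)) j) 24 = true) j hj))

theorem UB_sq : UB * UB = 1 :=
  Acts.eq_of (UB_acts.mul UB_acts) acts_one
    (fun j hj => Nat.eq_of_beq_eq_true
      (chk_spec (by decide +kernel : chk (fun j => Nat.beq (evC uB (evC uB j)) j) 24 = true) j hj))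

theorem VA_cube : VA * (VA * VA) = 1 :=
  Acts.eq_of (VA_acts.mul (VA_acts.mul VA_acts)) acts_one
    (fun j hj => Nat.eq_of_beq_eq_true
      (chk_spec (by decide +kernel :
        chk (fun j => Nat.beq (evC vA (evC vA (evC vA j))) j) 24 = true) j hj))

theorem VB_cube : VB * (VB * VB) = 1 :=
  Acts.eq_of (VB_acts.mul (VB_acts.mul VB_acts)) acts_one
    (fun j hj => Nat.eq_of_beq_eq_true
      (chk_spec (by decide +kernel :
        chk (fun j => Nat.beq (evC vB (evC vB (evC vB j))) j) 24 = true) j hj))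

theorem UA_ne_one : UA ≠ 1 := by
  intro h
  have h1 := UA_acts.idx_apply (pt 1)
  rw [h, idx_pt (by norm_num)] at h1
  exact absurd h1 (by decide +kernel)

theorem UB_fpf (p : GolayPt) : UB p ≠ p := by
  rw [Ne, UB_acts.fixed_iff]
  have h := chk_spec (by decide +kernel :
    chk (fun j => not (Nat.beq (evC uB j) j)) 24 = true) (idx p) (idx_lt p)
  intro e
  rw [e, Nat.beq_refl] at h
  exact absurd h (by decide)

theorem VB_fpf (p : GolayPt) : VB p ≠ p := by
  rw [Ne, VB_acts.fixed_iff]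
  have h := chk_spec (by decide +kernel :
    chk (fun j => not (Nat.beq (evC vB j) j)) 24 = true) (idx p) (idx_lt p)
  intro e
  rw [e, Nat.beq_refl] at h
  exact absurd h (by decide)

theorem UB_ne_one : UB ≠ 1 := fun h => UB_fpf (pt 0) (by rw [h]; rfl)
theorem VB_ne_one : VB ≠ 1 := fun h => VB_fpf (pt 0) (by rw [h]; rfl)

theorem VA_ne_one : VA ≠ 1 := by
  intro h
  have h1 := VA_acts.idx_apply (pt 0)
  rw [h, idx_pt (by norm_num)] at h1
  exact absurd h1 (by decide +kernel)

/-- the mask of the fixed points of the standard involution `UA` -/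
def fixA : ℕ := 1250945

/-- the mask of the fixed points of the standard element `VA` -/
def fix3A : ℕ := 4509824

theorem fixed_eq_suppMask {σ : Equiv.Perm GolayPt} {f : ℕ → ℕ} (h : Acts σ f) {m : ℕ}
    (hm : chk (fun j => Nat.beq (f j) j == m.testBit j) 24 = true) :
    (Finset.univ.filter fun p => σ p = p) = suppMask m := by
  ext p
  rw [Finset.mem_filter, mem_suppMask, h.fixed_iff]
  have h1 := chk_spec hm (idx p) (idx_lt p)
  have h2 : Nat.beq (f (idx p)) (idx p) = m.testBit (idx p) := by simpa using h1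
  simp only [Finset.mem_univ, true_and]
  rw [← h2]
  constructor
  · intro e; rw [e]; exact Nat.beq_refl _
  · exact Nat.eq_of_beq_eq_true

theorem UA_fixed : (Finset.univ.filter fun p => UA p = p) = suppMask fixA :=
  fixed_eq_suppMask UA_acts (by decide +kernel)

theorem VA_fixed : (Finset.univ.filter fun p => VA p = p) = suppMask fix3A :=
  fixed_eq_suppMask VA_acts (by decide +kernel)

theorem fixA_mem : suppMask fixA ∈ octads :=
  mem_octads_iff.2 ⟨1665, by norm_num, by rw [← pc24_eq]; decide +kernel, by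
    congr 1⟩

theorem fixed_conj (k g : Equiv.Perm GolayPt) :
    (Finset.univ.filter fun p => (k * g * k⁻¹) p = p) =
      k • (Finset.univ.filter fun p => g p = p) := by
  ext q
  obtain ⟨r, rfl⟩ : ∃ r, k r = q := ⟨k⁻¹ q, by simp⟩
  rw [smul_mem_smul_iff, Finset.mem_filter, Finset.mem_filter]
  simp only [Finset.mem_univ, true_and]
  show k (g (k⁻¹ (k r))) = k r ↔ g r = r
  rw [show k⁻¹ (k r) = r by simp]
  exact k.injective.eq_iff

/-! ### the conjugacy certificates -/

/-- conjugation witnesses for the involutions `uA * l`, `l` in `L48c` -/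
def WA : List ℕ := [502527650969844251378393833478315718, 0, 0, 0, 0, 0, 0, 841693604838868585994226222192329868, 0, 0, 0, 0, 0, 0, 25562630507365304682433817712112898, 0, 0, 10926097249601875223219499483899393, 0, 0, 0, 0, 0, 0, 0, 0, 0, 0, 0, 0, 0, 0, 0, 0, 0, 0, 0, 0, 0, 0, 0, 0, 0, 0, 0, 0, 0, 0]

/-- conjugation witnesses for the involutions `uB * l`, `l` in `L960c` -/
def WB : List ℕ := [772735253215785358456185442927880239, 0, 0, 0, 0, 0, 0, 0, 0, 0, 0, 0, 0, 0, 0, 0, 0, 0, 0, 0, 0, 0, 0, 0, 0, 127836507909972098687658979506726224, 0, 0, 0, 0, 0, 0, 0, 0, 0, 0, 0, 0, 0, 0, 813053676764291503428888671897770433, 0, 0, 0, 0, 0, 0, 0, 0, 0, 0, 0, 0, 0, 0, 0, 0, 0, 0, 0, 0, 174566965339082696671881509820765589, 0, 0, 0, 0, 0, 470254167602007421853952780868878885, 0, 0, 0, 0, 0, 0, 0, 0, 0, 0, 0, 0, 0, 0, 0, 0, 0, 0, 0, 0, 0, 0, 0, 0, 0, 0, 2160253857474840440055562786856649, 0, 0, 0, 0, 0, 0, 0, 0, 0, 0, 0, 0, 0, 0, 0, 0, 0, 0, 0, 0, 0, 0, 0, 0, 0, 0,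 0, 0, 0, 0, 0, 0, 0, 0, 0, 0, 0, 0, 0, 0, 0, 0, 0, 0, 0, 0, 0, 0, 0, 0, 0, 87283296706909915394158077429908779, 0, 0, 0, 127381949388522892162452101076203009, 0, 0, 0, 0, 0, 0, 0, 0, 0, 0, 0, 0, 0, 0, 0, 0, 0, 0, 0, 0, 0, 0, 0, 882815065279053225844544738072084883, 0, 0, 0, 0, 0, 0, 0, 0, 0, 0, 0, 0, 0, 0, 0, 0, 0, 0, 0, 0, 0, 0, 0, 0, 0, 0, 0, 0, 0, 0, 0, 0, 0, 0, 772574979256421482324833657987535601, 0, 0, 0, 0, 0, 0, 0, 173944072451521931594443251249717555, 0, 0, 0, 0, 0, 0, 0, 0, 0, 0, 0, 0, 0, 0, 0, 0, 0, 0, 0, 0, 0, 174401635287252730711203110466339276, 0, 690824418335213102345608292181559655, 0, 0, 0, 0, 0, 0, 470734722534890574900349319923177517, 0, 0, 0, 923649944350793423329059660120760814, 0, 0, 1649874937320659554897309858942405, 0, 0, 0, 0, 0, 0, 0, 0, 0, 0, 0, 0, 0, 0, 510392348148263310167217730822373494, 0, 0, 0, 0, 0, 0, 0, 0, 0, 0, 0, 0, 0, 0, 430564697232114740162548039744366193, 0, 0, 87141132835854881089151476484912460, 0, 0, 0, 0,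 0, 0, 0, 0, 0, 0, 0, 0, 0, 0, 0, 0, 0, 0, 0, 0, 0, 0, 0, 0, 0, 0, 0, 0, 0, 0, 0, 0, 470449363825903228960032965390381705, 0, 0, 0, 0, 812975592269419762910979926191706151, 0, 0, 0, 0, 0, 0, 0, 0, 0, 0, 0, 0, 977491340310684331231597289396121685, 0, 0, 0, 0, 0, 0, 0, 319873327352845832195586216210760876, 0, 0, 0, 0, 0, 0, 0, 0, 0, 0, 0, 0, 0, 0, 772774369266996911497236289228638510, 0, 852161974950723591533602392289023214, 0, 772901099001887071000026043384060433, 0, 0, 0, 0, 0, 0, 588486802761061068966009914619285161, 0, 0, 0, 0, 0, 0, 0, 0, 0, 0, 0, 559594670203554201990017510759766578, 0, 0, 0, 0, 0, 0, 0, 0, 0, 0, 0, 0, 0, 883445200010852649337811750393237655, 0, 0, 0, 0, 0, 0, 389423673988175572365699750990949910, 0, 0, 0, 0, 0, 0, 0, 0, 0, 0, 0, 0, 0, 0, 0, 0, 0, 0, 0, 0, 0, 0, 0, 0, 0, 0, 640035787244380889533341250888480800, 0, 0, 0, 0, 0, 0, 0, 0, 0, 0, 0, 0, 0, 0, 0, 0, 0, 0, 0, 0, 0, 0, 0, 0, 0, 0, 0, 0, 0, 0, 0, 0, 0, 0, 0, 0, 255377617024431657813856467264427113,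 0, 772574988168851244205217396658548193, 0, 0, 0, 0, 0, 0, 0, 0, 0, 0, 977801584422950479530398046771103755, 559851213982157731165484584844990836, 588929085010261997288651939927277580, 0, 0, 0, 0, 0, 0, 0, 0, 0, 0, 0, 0, 0, 0, 0, 0, 0, 0, 0, 0, 0, 0, 0, 0, 0, 0, 0, 0, 0, 0, 0, 0, 0, 0, 0, 0, 0, 0, 0, 0, 0, 0, 0, 0, 736257118054733800099220157886631627, 0, 0, 0, 0, 0, 0, 0, 0, 0, 0, 0, 0, 0, 0, 0, 0, 0, 0, 0, 0, 0, 0, 0, 0, 0, 0, 0, 0, 0, 0, 0, 736093384915456449976472478577711560, 0, 0, 0, 0, 0, 0, 0, 0, 0, 0, 0, 560044611058089899929112847865499970, 0, 0, 0, 0, 0, 0, 0, 0, 0, 0, 0, 0, 0, 0, 0, 0, 0, 0, 0, 0, 0, 0, 0, 0, 640812597925248481015185025391442230, 0, 0, 0, 0, 0, 0, 0, 0, 0, 0, 0, 0, 470477707008121534998622955231430900, 0, 0, 0, 0, 0, 0, 0, 0, 0, 0, 127252371043175316766231650213798199, 0, 0, 0, 0, 0, 0, 0, 0, 0, 0, 0, 0, 0, 0, 691074066967400812184965513467876459, 0, 0, 0, 254463998862181461670159577437905447, 0, 0, 0, 0, 0, 0, 0, 0, 0, 0, 0,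 0, 0, 0, 0, 0, 0, 0, 0, 0, 0, 0, 0, 0, 0, 0, 0, 510769002038302585040057715064570535, 0, 0, 0, 0, 0, 0, 0, 0, 0, 0, 0, 0, 0, 0, 0, 0, 0, 0, 0, 42164166491992266425002264556586092, 0, 0, 0, 0, 0, 0, 0, 0, 0, 0, 0, 0, 0, 0, 225866787690573280946600551248138343, 0, 0, 0, 736178791919002608869705487921633641, 0, 0, 0, 0, 0, 0, 0, 0, 0, 0, 0, 0, 0, 0, 0, 0, 0, 0, 0, 773308791004873990707164054152488309, 0, 0, 0, 0, 0, 0, 0, 0, 0, 0, 0, 0, 0, 0, 0, 0, 0, 0, 0, 0, 0, 0, 0, 0, 0, 0, 0, 0, 0, 0, 470857900158035923088362567089442863, 0, 0, 0, 0, 0, 0, 226490204332109771190704570175275362, 0, 0, 0, 0, 0, 0, 0, 0, 0, 0, 0, 736583171219358975922624543067212118, 0, 0, 0, 0, 0, 0, 0, 0, 0, 0, 0, 0, 0, 0, 0, 0, 0, 0, 0, 255216243266238129215419892978288032, 0, 0, 0, 0, 0, 0, 510768180401991066071975125385861363, 0, 0, 0, 0, 0, 0, 0, 0, 0, 0, 0, 0, 0, 0, 0, 0, 0, 0, 0, 0, 0, 640121391727620639102326954692615563, 0, 0, 0, 0, 0, 0, 0, 0, 0, 0, 0, 0, 0, 225906083969586882832440623786134214,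 0, 0, 0, 0, 0, 0, 0, 0, 0, 0, 0, 42212913054503575967059061012664753, 0, 0, 0, 0, 0, 0, 0, 0, 0, 0, 0, 0, 560264412446955129776174840090875340, 0, 0, 0, 0, 0, 0, 0, 0, 0, 0, 0, 0, 0, 0, 0, 0, 772603218415125162046616018910993955, 0, 0, 0, 0, 0, 0, 0, 0, 0, 0, 0, 0, 0, 510228323915383530412655294629824116, 0, 0, 0, 0, 0, 0, 429664526704082108845576663963614280, 0, 470254892680447923211861118342565330, 0, 923390233898194098500186164871581709, 0, 0, 0, 0, 0, 0, 0, 0, 0, 0, 0, 0, 0, 0, 0, 319707366554356379731327527096978511, 0, 0, 0, 0, 0, 0, 87220234793548761035817167388880938, 0, 0, 0, 0, 0, 0, 0, 0, 0, 0, 0, 0, 0, 0, 0, 0, 0, 0, 0, 0, 0, 0, 0, 0, 389841936123513760277275881250574574, 0, 0]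

/-- conjugation witnesses for the elements of order three `vB * l`, `l` in `L960c` -/
def W3 : List ℕ := [516031682276642394022826345704800278, 0, 0, 0, 0, 0, 0, 0, 0, 0, 0, 0, 0, 0, 0, 0, 0, 0, 0, 0, 83123311891932970262948772250827939, 0, 0, 0, 0, 0, 0, 0, 83141643065376202794212603833238889, 0, 0, 0, 0, 0, 0, 0, 0, 0, 0, 0, 0, 0, 0, 0, 0, 0, 0, 0, 0, 0, 0, 0, 0, 0, 179256000646642344904148091559200370, 0, 0, 0, 0, 0, 0, 0, 0, 0, 0, 0, 0, 0, 0, 0, 0, 0, 0, 0, 0, 0, 884638930457644247612461328228793780, 0, 0, 0, 0, 179264082038706480218939680176361152, 0, 0, 0, 0, 0, 0, 0, 0, 0, 0, 0, 0, 0, 395470403138171179153306004368168148, 0, 0, 0, 0, 0, 0, 0, 887314902792594931006883155172151587, 0, 0, 0, 0, 0, 0, 0, 0, 0, 0, 0, 0, 0, 0, 0, 0, 0, 0, 0, 0, 0, 0, 0, 0, 0, 0, 0, 0, 0, 562573764097140807156643001559750816, 0, 0, 0, 0, 0, 850586796447750108317294711753347456, 0, 0, 0, 0, 0, 0, 0, 0, 0, 0, 0, 0, 0, 0, 0, 0, 0, 797393585513285480713800115251449322, 0,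 516036026599658190140500065284267489, 0, 0, 0, 0, 0, 0, 1388964413564028481958701824710826, 0, 0, 0, 0, 0, 0, 0, 0, 0, 0, 0, 0, 0, 0, 0, 0, 0, 0, 0, 0, 0, 0, 0, 0, 0, 0, 436750121686554063505552979415674496, 0, 0, 0, 0, 0, 0, 0, 0, 0, 0, 0, 959457271243942912280595853417645426, 0, 0, 0, 0, 0, 0, 0, 0, 0, 0, 0, 0, 0, 0, 0, 0, 0, 0, 0, 0, 0, 0, 0, 0, 0, 0, 130759766480393308377065643984954817, 0, 0, 0, 0, 0, 0, 0, 0, 0, 0, 0, 0, 0, 0, 0, 0, 0, 0, 0, 0, 0, 319540015757523192390785415395892914, 0, 0, 0, 0, 0, 0, 0, 0, 0, 850585160784481277372506030674194017, 0, 0, 0, 0, 0, 0, 0, 0, 0, 0, 0, 0, 0, 0, 0, 481149080542547261927003616575541320, 0, 0, 0, 0, 0, 0, 0, 0, 0, 0, 83131980807563427883159075113511028, 0, 0, 0, 850592419165263077823563979075002017, 0, 0, 0, 0, 0, 0, 0, 959463427156496947907735703213325835, 0, 0, 0, 0, 0, 0, 0, 0, 0, 0, 0, 0, 0, 0, 0, 0, 0, 0, 0, 0, 0, 0, 0, 0, 0, 0, 0, 0, 0, 0, 0, 0, 0, 0, 0, 0, 0, 0, 0, 0, 0, 0, 0, 797409720811083683778766044218788244,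 0, 0, 0, 0, 775412256051861571328585290571320006, 0, 0, 0, 0, 0, 0, 0, 0, 0, 0, 0, 0, 0, 0, 0, 0, 0, 887316215505570402258898392071127528, 0, 0, 0, 0, 0, 0, 0, 0, 0, 0, 0, 0, 0, 0, 0, 0, 0, 0, 0, 0, 0, 0, 0, 0, 217672186132186466610287599352909548, 0, 0, 0, 0, 319529147284484607123610344431691302, 0, 0, 0, 0, 0, 0, 0, 0, 0, 0, 0, 0, 0, 0, 0, 0, 850587466526971312846627415569596835, 0, 0, 0, 0, 0, 0, 0, 0, 0, 0, 0, 0, 0, 0, 0, 0, 0, 595175016314989757628215022348061089, 0, 0, 0, 0, 0, 0, 0, 0, 0, 0, 0, 0, 0, 0, 0, 0, 0, 0, 0, 0, 0, 0, 0, 0, 0, 261704507076757018190863914965208420, 0, 0, 0, 0, 0, 0, 398766830533435177627154996347145390, 0, 0, 0, 0, 0, 0, 0, 0, 0, 0, 0, 0, 0, 0, 0, 0, 0, 0, 0, 0, 0, 0, 0, 0, 0, 0, 0, 0, 0, 0, 0, 0, 0, 0, 130227951496778382815807156179254326, 0, 0, 0, 0, 0, 0, 0, 0, 0, 0, 0, 0, 0, 692244122811006997332007764975297216, 0, 0, 0, 347539942251785595963969297654484006, 0, 0, 0, 0, 0, 395491190061896257364574998468375624, 683203646722608080945651489433098469,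 0, 0, 0, 0, 0, 0, 0, 481145961590327423380890571169536288, 0, 0, 0, 0, 0, 0, 0, 0, 0, 0, 0, 0, 0, 0, 0, 0, 0, 0, 0, 0, 0, 0, 0, 0, 0, 217678804738732138405501985461097548, 0, 0, 0, 0, 0, 0, 0, 0, 0, 0, 0, 0, 0, 0, 0, 0, 44149201683654361125976442292280612, 0, 0, 0, 0, 0, 0, 0, 0, 0, 0, 0, 0, 0, 0, 0, 0, 0, 0, 0, 0, 0, 0, 0, 0, 0, 481160176978387443001018440780208198, 0, 0, 722277466136002446305450277866930383, 0, 0, 0, 0, 0, 0, 0, 0, 0, 0, 0, 0, 0, 0, 0, 0, 0, 0, 0, 0, 0, 0, 0, 0, 0, 692255338401813929850907931905231104, 0, 0, 0, 0, 395474544091047216618367637039501430, 0, 0, 0, 0, 0, 0, 0, 0, 0, 0, 0, 0, 0, 0, 0, 0, 0, 0, 0, 0, 0, 0, 0, 0, 0, 0, 0, 0, 546743234316326528836381992988333392, 179278296068593380696277359806564747, 0, 0, 0, 0, 0, 0, 0, 0, 0, 0, 0, 850576455215260100529147050577705394, 0, 0, 0, 0, 0, 0, 516038380669514658587156394742069283, 0, 0, 0, 0, 0, 0, 0, 0, 0, 0, 0, 0, 0, 0, 0, 0, 83125289856868530210510820340321713, 0, 0, 0, 0, 0, 0,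 0, 0, 0, 0, 0, 0, 0, 0, 0, 0, 481161375042459985983862743963737123, 0, 0, 0, 0, 0, 0, 0, 0, 0, 0, 0, 0, 0, 0, 0, 0, 0, 1402881136150061011653758204136846, 0, 0, 0, 0, 0, 0, 0, 0, 0, 0, 0, 0, 0, 0, 0, 0, 0, 959462774987712404103849589446514953, 0, 0, 0, 0, 0, 0, 0, 0, 0, 0, 0, 0, 0, 0, 0, 83128271184192304684478032160269483, 0, 0, 0, 0, 0, 0, 0, 0, 0, 0, 0, 0, 0, 0, 0, 0, 0, 0, 887318841789808095164584702297967114, 0, 0, 0, 0, 0, 0, 0, 0, 0, 775403146092546061106506107778764847, 0, 0, 0, 0, 0, 0, 0, 0, 0, 0, 0, 0, 0, 0, 0, 0, 0, 0, 0, 0, 0, 0, 0, 0, 0, 0, 0, 0, 0, 0, 0, 887324602162679727753508906124652655, 0, 0, 0, 319533044148026406541768381528747584, 0, 0, 0, 0, 0, 0, 0, 0, 0, 0, 44140516463477724711592068753078674, 0, 0, 0, 0, 0, 0, 0, 0, 0, 0, 0, 0, 0, 0, 0, 0, 0, 0, 0, 0, 0, 0, 0, 0, 0, 0, 0, 0, 0, 0, 0, 0, 0, 0, 0, 0, 0, 0, 0, 0, 0, 0, 0, 0, 0, 0, 0, 0, 0, 0, 0, 0, 0, 0, 0, 0, 0, 0, 920619919196350044178390199332984301, 850580296942077947642291209710949380,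 797382694076885709101867876150860936, 0, 0, 0, 0, 0, 0, 0, 0, 0, 0, 0, 0, 0, 0, 0, 0, 0, 0, 0, 0, 0, 0, 0, 0, 0, 0, 0, 0, 0, 0, 0, 0, 0, 0, 0, 0, 0, 0, 0, 0, 0, 0, 0, 0, 0, 0, 0, 0]

/-- certificate for involutions with a fixed point -/
def chkA (l w : ℕ) : Bool :=
  or (not (sqId uA l)) (and (inM24c w) (conjOK w uA l uA))

/-- certificate for fixed-point-free involutions -/
def chkB (l w : ℕ) : Bool :=
  or (not (sqId uB l)) (or (anyFix uB l) (and (inM24c w) (conjOK w uB l uB)))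

/-- certificate for elements of order three -/
def chk3 (l w : ℕ) : Bool :=
  or (not (cubeId vB l)) (and (inM24c w)
    (or (and (anyFix vB l) (conjOK w vB l vA)) (and (not (anyFix vB l)) (conjOK w vB l vB))))

theorem checkA : chk2 chkA L48c WA = true := by decide +kernel

set_option maxRecDepth 100000 in
theorem checkB : chk2 chkB L960c WB = true := by decide +kernel

set_option maxRecDepth 100000 in
theorem check3 : chk2 chk3 L960c W3 = true := by decide +kernel

/-! ### conjugacy theorems -/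

/-- embedding given by a list without repetitions -/
def embL (xs : List GolayPt) (h : xs.Nodup) : Fin xs.length ↪ GolayPt :=
  ⟨xs.get, h.injective_get⟩

theorem exists_moved {g : Equiv.Perm GolayPt} (hne : g ≠ 1) : ∃ a, g a ≠ a := by
  by_contra hc
  push Not at hc
  exact hne (Equiv.ext hc)

/-- a non-identity element of `M24` moves a point outside any given set of at most `15`
points -/
theorem exists_moved_outside {g : Equiv.Perm GolayPt} (hg : g ∈ M24) (hne : g ≠ 1)
    (s : Finset GolayPt) (hs : s.card ≤ 15) : ∃ c, c ∉ s ∧ g c ≠ c := by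
  by_contra hc
  push Not at hc
  have h8 := card_fixed_le_eight hg hne
  have hsub : sᶜ ⊆ Finset.univ.filter fun p => g p = p := by
    intro c hcm
    rw [Finset.mem_filter]
    exact ⟨Finset.mem_univ _, hc c (Finset.mem_compl.1 hcm)⟩
  have := Finset.card_le_card hsub
  rw [Finset.card_compl, card_golayPt] at this
  omega

theorem conj_apply (k g : Equiv.Perm GolayPt) (q : GolayPt) :
    (k * g * k⁻¹) (k q) = k (g q) := by
  show k (g (k⁻¹ (k q))) = k (g q)
  simp

theorem conj_fixed_iff (k g : Equiv.Perm GolayPt) :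
    (∃ p, (k * g * k⁻¹) p = p) ↔ ∃ p, g p = p := by
  constructor
  · rintro ⟨p, hp⟩
    refine ⟨k⁻¹ p, ?_⟩
    have h1 : k (g (k⁻¹ p)) = p := hp
    exact Equiv.Perm.eq_inv_iff_eq.2 h1
  · rintro ⟨p, hp⟩
    exact ⟨k p, by rw [conj_apply, hp]⟩

theorem uA_vals : evC uA 0 = 0 ∧ evC uA 1 = 2 ∧ evC uA 2 = 1 ∧ evC uA 3 = 4 ∧ evC uA 4 = 3 := by
  decide +kernel

theorem uB_vals : evC uB 0 = 1 ∧ evC uB 1 = 0 ∧ evC uB 2 = 3 ∧ evC uB 3 = 2 := by
  decide +kernel

theorem vB_vals : evC vB 0 = 1 ∧ evC vB 1 = 2 ∧ evC vB 2 = 0 ∧ evC vB 3 = 4 := by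
  decide +kernel

/-- an involution of `M24` with a fixed point is conjugate to `UA` -/
theorem inv_conj_A {g : Equiv.Perm GolayPt} (hg : g ∈ M24) (h2 : g * g = 1) (hne : g ≠ 1)
    {p : GolayPt} (hp : g p = p) : ∃ k ∈ M24, k * g * k⁻¹ = UA := by
  have hgg : ∀ q, g (g q) = q := fun q => Equiv.Perm.congr_fun h2 q
  obtain ⟨a, ha⟩ := exists_moved hne
  have hpa : p ≠ a := by rintro rfl; exact ha hp
  have hpb : p ≠ g a := by
    intro e
    have h1 : g p = a := by rw [e, hgg]
    exact hpa (hp.symm.trans h1)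
  obtain ⟨c, hc, hcm⟩ := exists_moved_outside hg hne {p, a, g a}
    (le_trans Finset.card_le_three (by norm_num))
  simp only [Finset.mem_insert, Finset.mem_singleton, not_or] at hc
  obtain ⟨hcp, hca, hcb⟩ := hc
  have hdp : g c ≠ p := by
    intro e
    have h1 := hgg c
    rw [e, hp] at h1
    exact hcp h1.symm
  have hda : g c ≠ a := by
    intro e
    have h1 := hgg c
    rw [e] at h1
    exact hcb h1.symm
  have hdb : g c ≠ g a := fun e => hca (g.injective e)
  let x : Fin 5 ↪ GolayPt := embL [p, a, g a, c, g c] (by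
    simp [hpa, hpb, Ne.symm hcp, Ne.symm hdp, Ne.symm ha, Ne.symm hca, Ne.symm hda, Ne.symm hcb,
      Ne.symm hdb, Ne.symm hcm])
  obtain ⟨k, hk, hkx⟩ := Cfsg.Agent.Lib.Helper7.M24_exists_smul_eq (le_refl 5) x base5
  have k0 : k p = pt 0 := hkx 0
  have k1 : k a = pt 1 := hkx 1
  have k2 : k (g a) = pt 2 := hkx 2
  have k3 : k c = pt 3 := hkx 3
  have k4 : k (g c) = pt 4 := hkx 4
  obtain ⟨e0, e1, e2, e3, e4⟩ := uA_vals
  have h5 : ∀ i, i < 5 → (k * g * k⁻¹) (pt i) = pt (evC uA i) := by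
    intro i hi
    interval_cases i
    · rw [e0, ← k0, conj_apply, hp]
    · rw [e1, ← k1, conj_apply, k2]
    · rw [e2, ← k2, conj_apply, hgg, k1]
    · rw [e3, ← k3, conj_apply, k4]
    · rw [e4, ← k4, conj_apply, hgg, k3]
  obtain ⟨l, hl, hA⟩ := normal5
    (Subgroup.mul_mem _ (Subgroup.mul_mem _ hk hg) (Subgroup.inv_mem _ hk)) uA_mem h5
  obtain ⟨w, hw⟩ := chk2_spec chkA _ _ checkA l hl
  unfold chkA at hw
  rw [Bool.or_eq_true] at hw
  have hsq : (k * g * k⁻¹) * (k * g * k⁻¹) = 1 := by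
    have : (k * g * k⁻¹) * (k * g * k⁻¹) = k * (g * g) * k⁻¹ := by group
    rw [this, h2]; group
  rcases hw with hw | hw
  · rw [sqId_of hA hsq] at hw
    exact absurd hw (by decide)
  · rw [Bool.and_eq_true] at hw
    obtain ⟨k', hk', e⟩ := conj_of_check hA hw.1 uA_valid hw.2
    refine ⟨k' * k, Subgroup.mul_mem _ hk' hk, ?_⟩
    have : k' * k * g * (k' * k)⁻¹ = k' * (k * g * k⁻¹) * k'⁻¹ := by group
    rw [this, e]
    rfl

/-- a fixed-point-free involution of `M24` is conjugate to `UB` -/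
theorem inv_conj_B {g : Equiv.Perm GolayPt} (hg : g ∈ M24) (h2 : g * g = 1)
    (hfpf : ∀ p, g p ≠ p) : ∃ k ∈ M24, k * g * k⁻¹ = UB := by
  have hgg : ∀ q, g (g q) = q := fun q => Equiv.Perm.congr_fun h2 q
  obtain ⟨a, -⟩ : ∃ a : GolayPt, True := ⟨pt 0, trivial⟩
  have ha : g a ≠ a := hfpf a
  obtain ⟨c, hc⟩ : ∃ c, c ∉ ({a, g a} : Finset GolayPt) := by
    by_contra hall
    push Not at hall
    have hsub : (Finset.univ : Finset GolayPt) ⊆ {a, g a} := fun q _ => hall q
    have h1 := Finset.card_le_card hsub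
    rw [Finset.card_univ, card_golayPt] at h1
    have h3 : ({a, g a} : Finset GolayPt).card ≤ 2 := Finset.card_le_two
    omega
  simp only [Finset.mem_insert, Finset.mem_singleton, not_or] at hc
  obtain ⟨hca, hcb⟩ := hc
  have hcm : g c ≠ c := hfpf c
  have hda : g c ≠ a := by
    intro e
    have h1 := hgg c
    rw [e] at h1
    exact hcb h1.symm
  have hdb : g c ≠ g a := fun e => hca (g.injective e)
  let x : Fin 4 ↪ GolayPt := embL [a, g a, c, g c] (by
    simp [Ne.symm ha, Ne.symm hca, Ne.symm hda, Ne.symm hcb, Ne.symm hdb, Ne.symm hcm])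
  obtain ⟨k, hk, hkx⟩ := Cfsg.Agent.Lib.Helper7.M24_exists_smul_eq (by norm_num : 4 ≤ 5) x base4
  have k0 : k a = pt 0 := hkx 0
  have k1 : k (g a) = pt 1 := hkx 1
  have k2 : k c = pt 2 := hkx 2
  have k3 : k (g c) = pt 3 := hkx 3
  obtain ⟨e0, e1, e2, e3⟩ := uB_vals
  have h4 : ∀ i, i < 4 → (k * g * k⁻¹) (pt i) = pt (evC uB i) := by
    intro i hi
    interval_cases i
    · rw [e0, ← k0, conj_apply, k1]
    · rw [e1, ← k1, conj_apply, hgg, k0]
    · rw [e2, ← k2, conj_apply, k3]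
    · rw [e3, ← k3, conj_apply, hgg, k2]
  obtain ⟨l, hl, hA⟩ := normal4
    (Subgroup.mul_mem _ (Subgroup.mul_mem _ hk hg) (Subgroup.inv_mem _ hk)) uB_mem h4
  obtain ⟨w, hw⟩ := chk2_spec chkB _ _ checkB l hl
  unfold chkB at hw
  rw [Bool.or_eq_true, Bool.or_eq_true] at hw
  have hsq : (k * g * k⁻¹) * (k * g * k⁻¹) = 1 := by
    have : (k * g * k⁻¹) * (k * g * k⁻¹) = k * (g * g) * k⁻¹ := by group
    rw [this, h2]; group
  rcases hw with hw | hw | hw
  · rw [sqId_of hA hsq] at hw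
    exact absurd hw (by decide)
  · obtain ⟨q, hq⟩ := (conj_fixed_iff k g).1 ((anyFix_iff hA).1 hw)
    exact absurd hq (hfpf q)
  · rw [Bool.and_eq_true] at hw
    obtain ⟨k', hk', e⟩ := conj_of_check hA hw.1 uB_valid hw.2
    refine ⟨k' * k, Subgroup.mul_mem _ hk' hk, ?_⟩
    have : k' * k * g * (k' * k)⁻¹ = k' * (k * g * k⁻¹) * k'⁻¹ := by group
    rw [this, e]
    rfl

/-- an element of order three of `M24` is conjugate to `VA` if it has a fixed point, and to
`VB` otherwise -/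
theorem ord3_conj {g : Equiv.Perm GolayPt} (hg : g ∈ M24) (h3 : g * (g * g) = 1) (hne : g ≠ 1) :
    ∃ k ∈ M24, ((∃ p, g p = p) ∧ k * g * k⁻¹ = VA) ∨ ((∀ p, g p ≠ p) ∧ k * g * k⁻¹ = VB) := by
  have hggg : ∀ q, g (g (g q)) = q := fun q => Equiv.Perm.congr_fun h3 q
  obtain ⟨a, ha⟩ := exists_moved hne
  have hbc : g a ≠ g (g a) := fun e => ha (g.injective e).symm
  have hca : g (g a) ≠ a := by
    intro e
    have h1 := hggg a
    rw [e] at h1
    exact ha h1
  obtain ⟨d, hd, hdm⟩ := exists_moved_outside hg hne {a, g a, g (g a)}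
    (le_trans Finset.card_le_three (by norm_num))
  simp only [Finset.mem_insert, Finset.mem_singleton, not_or] at hd
  obtain ⟨hda, hdb, hdc⟩ := hd
  have hea : g d ≠ a := fun e => hdc (g.injective (e.trans (hggg a).symm))
  have heb : g d ≠ g a := fun e => hda (g.injective e)
  have hec : g d ≠ g (g a) := fun e => hdb (g.injective e)
  let x : Fin 5 ↪ GolayPt := embL [a, g a, g (g a), d, g d] (by
    simp [Ne.symm ha, Ne.symm hca, Ne.symm hda, Ne.symm hea, hbc, Ne.symm hdb, Ne.symm heb,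
      Ne.symm hdc, Ne.symm hec, Ne.symm hdm])
  obtain ⟨k, hk, hkx⟩ := Cfsg.Agent.Lib.Helper7.M24_exists_smul_eq (le_refl 5) x base5
  have k0 : k a = pt 0 := hkx 0
  have k1 : k (g a) = pt 1 := hkx 1
  have k2 : k (g (g a)) = pt 2 := hkx 2
  have k3 : k d = pt 3 := hkx 3
  have k4 : k (g d) = pt 4 := hkx 4
  obtain ⟨e0, e1, e2, e3⟩ := vB_vals
  have h4 : ∀ i, i < 4 → (k * g * k⁻¹) (pt i) = pt (evC vB i) := by
    intro i hi
    interval_cases i
    · rw [e0, ← k0, conj_apply, k1]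
    · rw [e1, ← k1, conj_apply, k2]
    · rw [e2, ← k2, conj_apply, hggg, k0]
    · rw [e3, ← k3, conj_apply, k4]
  obtain ⟨l, hl, hA⟩ := normal4
    (Subgroup.mul_mem _ (Subgroup.mul_mem _ hk hg) (Subgroup.inv_mem _ hk)) vB_mem h4
  obtain ⟨w, hw⟩ := chk2_spec chk3 _ _ check3 l hl
  unfold chk3 at hw
  rw [Bool.or_eq_true] at hw
  have hcube : (k * g * k⁻¹) * ((k * g * k⁻¹) * (k * g * k⁻¹)) = 1 := by
    have : (k * g * k⁻¹) * ((k * g * k⁻¹) * (k * g * k⁻¹)) = k * (g * (g * g)) * k⁻¹ := by group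
    rw [this, h3]; group
  rcases hw with hw | hw
  · rw [cubeId_of hA hcube] at hw
    exact absurd hw (by decide)
  · rw [Bool.and_eq_true, Bool.or_eq_true, Bool.and_eq_true, Bool.and_eq_true] at hw
    obtain ⟨hwM, hw2⟩ := hw
    have hconj : ∀ k' : Equiv.Perm GolayPt,
        k' * k * g * (k' * k)⁻¹ = k' * (k * g * k⁻¹) * k'⁻¹ := fun k' => by group
    rcases hw2 with ⟨hf, hc⟩ | ⟨hf, hc⟩
    · obtain ⟨k', hk', e⟩ := conj_of_check hA hwM vA_valid hc
      refine ⟨k' * k, Subgroup.mul_mem _ hk' hk, Or.inl ⟨?_, ?_⟩⟩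
      · exact (conj_fixed_iff k g).1 ((anyFix_iff hA).1 hf)
      · rw [hconj, e]; rfl
    · obtain ⟨k', hk', e⟩ := conj_of_check hA hwM vB_valid hc
      refine ⟨k' * k, Subgroup.mul_mem _ hk' hk, Or.inr ⟨?_, ?_⟩⟩
      · intro q hq
        have h1 := (anyFix_iff hA).2 ((conj_fixed_iff k g).2 ⟨q, hq⟩)
        rw [h1] at hf
        exact absurd hf (by decide)
      · rw [hconj, e]; rfl

/-! ### consequences -/

theorem sq_of_order_two {g : Equiv.Perm GolayPt} (h : orderOf g = 2) : g * g = 1 ∧ g ≠ 1 := by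
  constructor
  · have h1 := pow_orderOf_eq_one g
    rw [h, pow_two] at h1
    exact h1
  · intro e
    rw [e, orderOf_one] at h
    exact absurd h (by norm_num)

theorem cube_of_order_three {g : Equiv.Perm GolayPt} (h : orderOf g = 3) :
    g * (g * g) = 1 ∧ g ≠ 1 := by
  constructor
  · have h1 := pow_orderOf_eq_one g
    rw [h, pow_succ, pow_two] at h1
    rw [← mul_assoc]
    exact h1
  · intro e
    rw [e, orderOf_one] at h
    exact absurd h (by norm_num)

theorem UA_order : orderOf UA = 2 :=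
  orderOf_eq_prime (by rw [pow_two]; exact UA_sq) UA_ne_one

theorem UB_order : orderOf UB = 2 :=
  orderOf_eq_prime (by rw [pow_two]; exact UB_sq) UB_ne_one

theorem VA_order : orderOf VA = 3 :=
  orderOf_eq_prime (by rw [pow_succ, pow_two, mul_assoc]; exact VA_cube) VA_ne_one

theorem VB_order : orderOf VB = 3 :=
  orderOf_eq_prime (by rw [pow_succ, pow_two, mul_assoc]; exact VB_cube) VB_ne_one

/-- the fixed points of an involution of `M24` having a fixed point form an octad -/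
theorem fixed_mem_octads {g : Equiv.Perm GolayPt} (hg : g ∈ M24) (h2 : g * g = 1) (hne : g ≠ 1)
    {p : GolayPt} (hp : g p = p) : (Finset.univ.filter fun q => g q = q) ∈ octads := by
  obtain ⟨k, hk, e⟩ := inv_conj_A hg h2 hne hp
  have h1 := fixed_conj k g
  rw [e, UA_fixed] at h1
  have h3 : k • (Finset.univ.filter fun q => g q = q) ∈ octads := by
    rw [← h1]; exact fixA_mem
  exact (smul_mem_octads_iff hk).1 h3

/-- two involutions of `M24` which both have, or both have not, a fixed point are conjugate -/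
theorem inv_conj {g h : Equiv.Perm GolayPt} (hg : g ∈ M24) (hh : h ∈ M24) (hg2 : orderOf g = 2)
    (hh2 : orderOf h = 2) (hiff : (∀ p, g p ≠ p) ↔ (∀ p, h p ≠ p)) :
    ∃ k ∈ M24, k * g * k⁻¹ = h := by
  obtain ⟨g2, gne⟩ := sq_of_order_two hg2
  obtain ⟨h2, hne⟩ := sq_of_order_two hh2
  have key : ∀ u : Equiv.Perm GolayPt, (∃ k1 ∈ M24, k1 * g * k1⁻¹ = u) →
      (∃ k2 ∈ M24, k2 * h * k2⁻¹ = u) → ∃ k ∈ M24, k * g * k⁻¹ = h := by
    rintro u ⟨k1, hk1, e1⟩ ⟨k2, hk2, e2⟩
    refine ⟨k2⁻¹ * k1, Subgroup.mul_mem _ (Subgroup.inv_mem _ hk2) hk1, ?_⟩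
    have : k2⁻¹ * k1 * g * (k2⁻¹ * k1)⁻¹ = k2⁻¹ * (k1 * g * k1⁻¹) * k2 := by group
    rw [this, e1, ← e2]; group
  by_cases hf : ∀ p, g p ≠ p
  · exact key UB (inv_conj_B hg g2 hf) (inv_conj_B hh h2 (hiff.1 hf))
  · have hf' : ¬ ∀ p, h p ≠ p := fun hc => hf (hiff.2 hc)
    push Not at hf hf'
    obtain ⟨p, hp⟩ := hf
    obtain ⟨q, hq⟩ := hf'
    exact key UA (inv_conj_A hg g2 gne hp) (inv_conj_A hh h2 hne hq)

end Cfsg.Agent.Lib.Helper6.Cls
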