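import Mathlib
import Cfsg.Agent.Lib.Helper6.M24Fix
import Cfsg.Prelude.Def_SporadicCombinatorics

set_option autoImplicit false

/-! # The centraliser of a fixed-point-free involution of `M24`
(generated by `tools/gen_m24cen.py`) -/

namespace Cfsg.Agent.Lib.Helper6.Cls

open Cfsg Cfsg.Agent.Lib.Helper6.Golay Cfsg.Agent.Lib.Helper6.M24 Cfsg.Agent.Lib.Helper6.M12
open scoped Pointwise

/-- the centraliser in `M24` of a permutation -/
def cen (t : Equiv.Perm GolayPt) : Subgroup (Equiv.Perm GolayPt) where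
  carrier := {c | c ∈ M24 ∧ c * t = t * c}
  one_mem' := ⟨Subgroup.one_mem _, by rw [one_mul, mul_one]⟩
  mul_mem' := by
    rintro a b ⟨ha, ha'⟩ ⟨hb, hb'⟩
    refine ⟨Subgroup.mul_mem _ ha hb, ?_⟩
    rw [mul_assoc, hb', ← mul_assoc, ha', mul_assoc]
  inv_mem' := by
    rintro a ⟨ha, ha'⟩
    refine ⟨Subgroup.inv_mem _ ha, ?_⟩
    calc a⁻¹ * t = a⁻¹ * (t * a) * a⁻¹ := by group
      _ = a⁻¹ * (a * t) * a⁻¹ := by rw [ha']
      _ = t * a⁻¹ := by group

theorem mem_cen {t c : Equiv.Perm GolayPt} : c ∈ cen t ↔ c ∈ M24 ∧ c * t = t * c := Iff.rfl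

theorem cen_conj_mem {k t c : Equiv.Perm GolayPt} (hk : k ∈ M24) (hc : c ∈ cen t) :
    k * c * k⁻¹ ∈ cen (k * t * k⁻¹) := by
  refine ⟨Subgroup.mul_mem _ (Subgroup.mul_mem _ hk hc.1) (Subgroup.inv_mem _ hk), ?_⟩
  calc k * c * k⁻¹ * (k * t * k⁻¹) = k * (c * t) * k⁻¹ := by group
    _ = k * (t * c) * k⁻¹ := by rw [hc.2]
    _ = k * t * k⁻¹ * (k * c * k⁻¹) := by group

/-- the products `σ τ` and `τ σ` agree, as a kernel check -/
theorem comm_iff_of_acts {σ τ : Equiv.Perm GolayPt} {f f' : ℕ → ℕ} (h : Acts σ f)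
    (h' : Acts τ f') :
    σ * τ = τ * σ ↔ chk (fun j => Nat.beq (f (f' j)) (f' (f j))) 24 = true := by
  constructor
  · intro e
    apply chk_of_forall
    intro j hj
    have h1 := (h.mul h') j hj
    have h2 := (h'.mul h) j hj
    rw [e] at h1
    have h3 : pt (f (f' j)) = pt (f' (f j)) := h1.2.symm.trans h2.2
    have h4 : f (f' j) = f' (f j) := pt_injective h1.1 h2.1 h3
    show Nat.beq (f (f' j)) (f' (f j)) = true
    rw [h4]
    exact Nat.beq_refl _
  · intro hc
    exact Acts.eq_of (h.mul h') (h'.mul h) (fun j hj => Nat.eq_of_beq_eq_true (chk_spec hc j hj))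

/-- the coded elements `w`, `u` commute -/
def commOK (w u : ℕ) : Bool := chk (fun j => Nat.beq (evC w (evC u j)) (evC u (evC w j))) 24

theorem smul_suppMask_code (c : ℕ) (hv : tabValid (decodeTab c) = true) (n : ℕ) :
    tabPerm (decodeTab c) hv • suppMask n = suppMask (pmC c n &&& 16777215) :=
  Maps.smul (Maps.land_full (maps_tabPerm (decodeTab c) hv n))

theorem suppMask_or (a b : ℕ) : suppMask (a ||| b) = suppMask a ∪ suppMask b := by
  ext p
  rw [Finset.mem_union, mem_suppMask, mem_suppMask, mem_suppMask, Nat.testBit_or,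
    Bool.or_eq_true]

theorem smul_mem_sextets' {g : Equiv.Perm GolayPt} (hg : g ∈ M24)
    {S : Finset (Finset GolayPt)} (hS : S ∈ sextets) : g • S ∈ sextets := by
  obtain ⟨hcard, h4, hoct⟩ := hS
  refine ⟨by rw [Finset.card_smul_finset, hcard], ?_, ?_⟩
  · intro c hc
    obtain ⟨c', hc', rfl⟩ := Finset.mem_smul_finset.1 hc
    rw [Finset.card_smul_finset]
    exact h4 c' hc'
  · intro a ha b hb hne
    obtain ⟨a', ha', rfl⟩ := Finset.mem_smul_finset.1 ha
    obtain ⟨b', hb', rfl⟩ := Finset.mem_smul_finset.1 hb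
    have hne' : a' ≠ b' := fun h => hne (by rw [h])
    rw [← Finset.smul_finset_union]
    exact (smul_mem_octads_iff hg).2 (hoct a' ha' b' hb' hne')

/-! ### the invariant sextet -/

/-- the masks of the six tetrads of the sextet preserved by the centraliser of `UB` -/
def tets : List ℕ := [8519683, 827392, 16428, 3211520, 4688, 4197504]

/-- the sextet preserved by the centraliser of `UB` -/
def S0 : Finset (Finset GolayPt) := (tets.map suppMask).toFinset

theorem mem_S0 {x : Finset GolayPt} : x ∈ S0 ↔ ∃ m ∈ tets, suppMask m = x := by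
  unfold S0
  rw [List.mem_toFinset, List.mem_map]

theorem tets_check : tets.all (fun a => and (Nat.blt a 16777216) (and (Nat.beq (pc24 a) 4)
    (tets.all (fun b => or (Nat.beq a b)
      (and (isCode (Nat.lor a b)) (Nat.beq (pc24 (Nat.lor a b)) 8)))))) = true := by
  decide +kernel

theorem tets_nodup : tets.Nodup := by decide

theorem tets_lt {a : ℕ} (ha : a ∈ tets) : a < 2 ^ 24 := by
  have h := List.all_eq_true.1 tets_check a ha
  rw [Bool.and_eq_true] at h
  have := Nat.le_of_ble_eq_true h.1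
  omega

theorem S0_mem : S0 ∈ sextets := by
  refine ⟨?_, ?_, ?_⟩
  · unfold S0
    rw [List.toFinset_card_of_nodup, List.length_map]
    · rfl
    · apply List.Nodup.map_on _ tets_nodup
      intro a ha b hb e
      exact suppMask_inj (tets_lt ha) (tets_lt hb) e
  · intro t ht
    obtain ⟨a, ha, rfl⟩ := mem_S0.1 ht
    have h := List.all_eq_true.1 tets_check a ha
    rw [Bool.and_eq_true, Bool.and_eq_true] at h
    rw [card_suppMask, ← pc24_eq]
    exact Nat.eq_of_beq_eq_true h.2.1
  · intro t ht u hu hne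
    obtain ⟨a, ha, rfl⟩ := mem_S0.1 ht
    obtain ⟨b, hb, rfl⟩ := mem_S0.1 hu
    have h := List.all_eq_true.1 tets_check a ha
    rw [Bool.and_eq_true, Bool.and_eq_true] at h
    have h2 := List.all_eq_true.1 h.2.2 b hb
    rw [Bool.or_eq_true] at h2
    rcases h2 with h2 | h2
    · exact absurd (by rw [Nat.eq_of_beq_eq_true h2]) hne
    · rw [Bool.and_eq_true] at h2
      obtain ⟨k, hk, e⟩ := isCode_iff.1 h2.1
      rw [← suppMask_or]
      refine mem_octads_iff.2 ⟨k, hk, ?_, by rw [← e]; rfl⟩
      rw [← e, ← pc24_eq]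
      exact Nat.eq_of_beq_eq_true h2.2

/-- the coded element `w` permutes the six tetrads -/
def sxOK (w : ℕ) : Bool := tets.all (fun m => tets.contains (Nat.land (pmC w m) 16777215))

theorem smul_S0_of_sxOK {w : ℕ} (hv : tabValid (decodeTab w) = true) (hs : sxOK w = true) :
    tabPerm (decodeTab w) hv • S0 = S0 := by
  apply Finset.eq_of_subset_of_card_le
  · intro x hx
    obtain ⟨y, hy, rfl⟩ := Finset.mem_smul_finset.1 hx
    obtain ⟨m, hm, rfl⟩ := mem_S0.1 hy
    rw [smul_eq_image, ← smul_eq_image, smul_suppMask_code]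
    apply mem_S0.2
    refine ⟨pmC w m &&& 16777215, ?_, rfl⟩
    have h1 := List.all_eq_true.1 hs m hm
    exact List.contains_iff_mem.1 h1
  · rw [Finset.card_smul_finset]

/-! ### the stabiliser chain of the centraliser of `UB` -/

/-- elements of the centraliser of `UB` moving the point `0` to each point -/
def W0 : List ℕ := [1383171691763700179920714943059671, 41624157017003713164662678980603511, 86972855800128980576457300222794414, 127213315104087835247071024956907173, 173943795684945977048906122754864809, 225866645626356216552906753735053602, 254424397006855814963717982157000204, 319327863235731972068461322984410410, 359568012281301903439349342588349936, 389423831253680855173916002340649382, 429664171476007989168885090958690695, 469904756541162214500968500813836743, 510144733219337810666937549594988100, 559471513048749531505432606866588115, 588029621732764946069824706833668738, 639952233518191619837157463459124402, 690576889812650649521997746042966389, 736093177179580182467278274859553089,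 772356088456084505757233254380976365, 812595826411775617561553606825160077, 851538092441963651320574916115506408, 882691920785825780306078767143803476, 922932887510872876770456899559017675, 977535151287654576873305315181189729]

/-- elements of the centraliser of `UB` fixing `0` and moving the point `2` -/
def W2 : List ℕ := [0, 0, 1383171691763700179920714943059671, 1423063536955469170214736729871025, 1468505337597215446098002295758519, 1519283748063257963458129075350001, 1547060445640417443465190170595025, 1610524611314214945628767931519159, 1649357118348221551207331233642193, 1678773411070760775439785899872881, 1718150972108189372874528749178129, 1757171027789704122055620787837367, 1796823138492074975569963447429783, 1845246833696194911075448515760375, 1872640153470167823980197054896625, 1923603045671088936159415309615505, 1972989808469116814470961271385239, 0, 2052463818500606674410108892135569, 2092038650111994516322038669839895, 2129781858801437421478368726404337, 2160458390763371271147933412036023,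 2199980888124753260767645545021559, 0]

/-- the orbit of the point `2` under the stabiliser of `0` in the centraliser -/
def orb2 : ℕ := 8257532

/-- an element of `M24` mapping `0,1,2,3` to `0,1,17,23` -/
def t17 : ℕ := 2017080201271614386182035022227956

/-- an element of `M24` mapping `0,1,2,3` to `0,1,23,17` -/
def t23 : ℕ := 2253188673491104675264941676732653

/-- level `0`: `w` lies in the centraliser, preserves the sextet and moves `0` to `j` -/
def lev0 (j w : ℕ) : Bool :=
  and (inM24c w) (and (commOK w uB) (and (sxOK w) (Nat.beq (evC w 0) j)))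

/-- level `2`: if `j` lies in `orb2`, then `w` lies in the centraliser, preserves the sextet,
fixes `0` and moves `2` to `j` -/
def lev2 (j w : ℕ) : Bool :=
  or (Nat.beq (Nat.land (Nat.shiftRight orb2 j) 1) 0)
    (and (inM24c w) (and (commOK w uB) (and (sxOK w)
      (and (Nat.beq (evC w 0) 0) (Nat.beq (evC w 2) j)))))

theorem lev0_check : chkL lev0 W0 0 = true := by decide +kernel

theorem lev2_check : chkL lev2 W2 0 = true := by decide +kernel

theorem W0_length : W0.length = 24 := by decide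

theorem W2_length : W2.length = 24 := by decide

theorem lev0_spec (q : GolayPt) : ∃ c ∈ cen UB, c • S0 = S0 ∧ c (pt 0) = q := by
  have hi : idx q < W0.length := by rw [W0_length]; exact idx_lt q
  have h := chkL_spec lev0 W0 0 lev0_check (idx q) hi
  unfold lev0 at h
  rw [Bool.and_eq_true, Bool.and_eq_true, Bool.and_eq_true] at h
  obtain ⟨hM, hc, hs, he⟩ := h
  obtain ⟨hv, hmem⟩ := inM24c_spec hM
  refine ⟨tabPerm (decodeTab W0[idx q]) hv, ⟨hmem, ?_⟩, smul_S0_of_sxOK hv hs, ?_⟩
  · exact (comm_iff_of_acts (acts_code _ hv) UB_acts).2 hc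
  · rw [tabPerm_decode_pt _ hv (by norm_num), Nat.eq_of_beq_eq_true he, Nat.zero_add, pt_idx]

theorem lev2_spec {q : GolayPt} (hq : q ∈ suppMask orb2) :
    ∃ c ∈ cen UB, c • S0 = S0 ∧ c (pt 0) = pt 0 ∧ c (pt 2) = q := by
  have hi : idx q < W2.length := by rw [W2_length]; exact idx_lt q
  have h := chkL_spec lev2 W2 0 lev2_check (idx q) hi
  unfold lev2 at h
  rw [Bool.or_eq_true] at h
  rcases h with h | h
  · exfalso
    rw [mem_suppMask] at hq
    rcases bit_cases orb2 (0 + idx q) with ⟨h1, _⟩ | ⟨_, h2⟩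
    · rw [Nat.zero_add, hq] at h1
      exact absurd h1 (by decide)
    · rw [h2] at h
      exact absurd h (by decide)
  · rw [Bool.and_eq_true, Bool.and_eq_true, Bool.and_eq_true, Bool.and_eq_true] at h
    obtain ⟨hM, hc, hs, he0, he2⟩ := h
    obtain ⟨hv, hmem⟩ := inM24c_spec hM
    refine ⟨tabPerm (decodeTab W2[idx q]) hv, ⟨hmem, ?_⟩, smul_S0_of_sxOK hv hs, ?_, ?_⟩
    · exact (comm_iff_of_acts (acts_code _ hv) UB_acts).2 hc
    · rw [tabPerm_decode_pt _ hv (by norm_num), Nat.eq_of_beq_eq_true he0]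
    · rw [tabPerm_decode_pt _ hv (by norm_num), Nat.eq_of_beq_eq_true he2, Nat.zero_add, pt_idx]

/-- the action of the product `t * m` -/
def zf (t m j : ℕ) : ℕ := evC t (evC m j)

/-- `t` maps `0,1,2,3` to `0,1,q,UB q` and no element `t * m` with `m` fixing `0,1,2,3`
commutes with `UB` -/
def tmplOK (t q : ℕ) : Bool :=
  and (inM24c t) (and (Nat.beq (evC t 0) 0) (and (Nat.beq (evC t 1) 1) (and (Nat.beq (evC t 2) q)
    (and (Nat.beq (evC t 3) (evC uB q))
      (L960c.all (fun m => not (chk (fun j =>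
        Nat.beq (zf t m (evC uB j)) (evC uB (zf t m j))) 24)))))))

set_option maxRecDepth 100000 in
theorem t17_ok : tmplOK t17 17 = true := by decide +kernel

set_option maxRecDepth 100000 in
theorem t23_ok : tmplOK t23 23 = true := by decide +kernel

theorem cen_apply {c : Equiv.Perm GolayPt} (hc : c ∈ cen UB) (p : GolayPt) :
    c (UB p) = UB (c p) := Equiv.Perm.congr_fun hc.2 p

theorem UB_pt {j : ℕ} (hj : j < 24) : UB (pt j) = pt (evC uB j) := (UB_acts j hj).2

theorem cen_pt1 {c : Equiv.Perm GolayPt} (hc : c ∈ cen UB) (h0 : c (pt 0) = pt 0) :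
    c (pt 1) = pt 1 := by
  have h1 : UB (pt 0) = pt 1 := by rw [UB_pt (by norm_num), uB_vals.1]
  rw [← h1, cen_apply hc, h0]

theorem no_map_of_tmpl {t q : ℕ} (h : tmplOK t q = true) (hq : q < 24) {c : Equiv.Perm GolayPt}
    (hc : c ∈ cen UB) (h0 : c (pt 0) = pt 0) (h2 : c (pt 2) = pt q) : False := by
  unfold tmplOK at h
  rw [Bool.and_eq_true, Bool.and_eq_true, Bool.and_eq_true, Bool.and_eq_true,
    Bool.and_eq_true] at h
  obtain ⟨hM, e0, e1, e2, e3, hall⟩ := h
  have h3 : c (pt 3) = pt (evC uB q) := by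
    have h1 : UB (pt 2) = pt 3 := by rw [UB_pt (by norm_num), uB_vals.2.2.1]
    rw [← h1, cen_apply hc, h2, UB_pt hq]
  have h4 : ∀ i, i < 4 → c (pt i) = pt (evC t i) := by
    intro i hi
    interval_cases i
    · rw [Nat.eq_of_beq_eq_true e0]; exact h0
    · rw [Nat.eq_of_beq_eq_true e1]; exact cen_pt1 hc h0
    · rw [Nat.eq_of_beq_eq_true e2]; exact h2
    · rw [Nat.eq_of_beq_eq_true e3]; exact h3
  obtain ⟨m, hm, hA⟩ := normal4 hc.1 hM h4
  have h5 : chk (fun j => Nat.beq (zf t m (evC uB j)) (evC uB (zf t m j))) 24 = true :=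
    (comm_iff_of_acts hA UB_acts).1 hc.2
  have h6 := List.all_eq_true.1 hall m hm
  rw [h5] at h6
  exact absurd h6 (by decide)

theorem orb2_cases : ∀ j < 24, orb2.testBit j = true ∨ j = 0 ∨ j = 1 ∨ j = 17 ∨ j = 23 := by
  decide +kernel

theorem lev2_sub {c : Equiv.Perm GolayPt}
    (hc : c ∈ cen UB ⊓ MulAction.stabilizer (Equiv.Perm GolayPt) (pt 0)) :
    c (pt 2) ∈ suppMask orb2 := by
  obtain ⟨hcC, hc0⟩ := hc
  have hc0' : c (pt 0) = pt 0 := hc0
  rcases orb2_cases _ (idx_lt (c (pt 2))) with h | h | h | h | h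
  · exact mem_suppMask.2 h
  · exfalso
    have e : c (pt 2) = pt 0 := by rw [← pt_idx (c (pt 2)), h]
    have e2 : c (pt 2) = c (pt 0) := e.trans hc0'.symm
    exact absurd (c.injective e2) (by decide)
  · exfalso
    have e : c (pt 2) = pt 1 := by rw [← pt_idx (c (pt 2)), h]
    have e2 : c (pt 2) = c (pt 1) := e.trans (cen_pt1 hcC hc0').symm
    exact absurd (c.injective e2) (by decide)
  · exact (no_map_of_tmpl t17_ok (by norm_num) hcC hc0' (by rw [← pt_idx (c (pt 2)), h])).elim
  · exact (no_map_of_tmpl t23_ok (by norm_num) hcC hc0' (by rw [← pt_idx (c (pt 2)), h])).elim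

/-! ### the last level -/

/-- the codes of the elements of the centraliser of `UB` fixing `0,1,2,3` -/
def C16 : List ℕ := L960c.filter (fun m => commOK m uB)

set_option maxRecDepth 100000 in
theorem C16_length : C16.length = 16 := by decide +kernel

set_option maxRecDepth 100000 in
theorem C16_sx : C16.all sxOK = true := by decide +kernel

theorem L960c_nodup : L960c.Nodup := List.Nodup.of_map decodeTab L960_nodup

theorem L960c_valid {m : ℕ} (hm : m ∈ L960c) :
    ∃ hv : tabValid (decodeTab m) = true, tabPerm (decodeTab m) hv ∈ fixG 15 := by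
  have hgood := goodCode_spec (List.all_eq_true.1 L960c_good m hm)
  have hv := goodTab_valid hgood
  have hmem := goodTab_mem hgood
  rw [tabPermD_eq hv] at hmem
  exact ⟨hv, hmem⟩

theorem mem_H3_iff {c : Equiv.Perm GolayPt} :
    c ∈ cen UB ⊓ MulAction.stabilizer (Equiv.Perm GolayPt) (pt 0) ⊓
        MulAction.stabilizer (Equiv.Perm GolayPt) (pt 2) ↔
      ∃ m ∈ C16, c = tabPermD (decodeTab m) := by
  constructor
  · rintro ⟨⟨hcC, hc0⟩, hc2⟩
    have hc0' : c (pt 0) = pt 0 := hc0
    have hc2' : c (pt 2) = pt 2 := hc2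
    have hc1 := cen_pt1 hcC hc0'
    have hc3 : c (pt 3) = pt 3 := by
      have h1 : UB (pt 2) = pt 3 := by rw [UB_pt (by norm_num), uB_vals.2.2.1]
      rw [← h1, cen_apply hcC, hc2']
    have hfix : c ∈ fixG 15 := by
      refine ⟨hcC.1, ?_⟩
      intro q hq
      rw [testBit_15] at hq
      have hq4 : idx q < 4 := by simpa using hq
      have key : ∀ j, j < 4 → c (pt j) = pt j := by
        intro j hj
        interval_cases j
        · exact hc0'
        · exact hc1
        · exact hc2'
        · exact hc3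
      have := key (idx q) hq4
      rwa [pt_idx] at this
    obtain ⟨m, hm, hv, rfl⟩ := fixG_15_enum hfix
    refine ⟨m, ?_, (tabPermD_eq hv).symm⟩
    unfold C16
    rw [List.mem_filter]
    exact ⟨hm, (comm_iff_of_acts (acts_code m hv) UB_acts).1 hcC.2⟩
  · rintro ⟨m, hm, rfl⟩
    unfold C16 at hm
    rw [List.mem_filter] at hm
    obtain ⟨hv, hfix⟩ := L960c_valid hm.1
    rw [tabPermD_eq hv]
    refine ⟨⟨⟨hfix.1, (comm_iff_of_acts (acts_code m hv) UB_acts).2 hm.2⟩, ?_⟩, ?_⟩
    · exact hfix.2 (pt 0) (by rw [idx_pt (by norm_num)]; decide)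
    · exact hfix.2 (pt 2) (by rw [idx_pt (by norm_num)]; decide)

theorem card_H3 : Nat.card (cen UB ⊓ MulAction.stabilizer (Equiv.Perm GolayPt) (pt 0) ⊓
    MulAction.stabilizer (Equiv.Perm GolayPt) (pt 2) : Subgroup (Equiv.Perm GolayPt)) = 16 := by
  have hset : ((cen UB ⊓ MulAction.stabilizer (Equiv.Perm GolayPt) (pt 0) ⊓
      MulAction.stabilizer (Equiv.Perm GolayPt) (pt 2) : Subgroup (Equiv.Perm GolayPt)) :
        Set (Equiv.Perm GolayPt)) =
      (fun m => tabPermD (decodeTab m)) '' ((C16.toFinset : Finset ℕ) : Set ℕ) := by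
    ext c
    rw [SetLike.mem_coe, mem_H3_iff, Set.mem_image]
    constructor
    · rintro ⟨m, hm, rfl⟩
      exact ⟨m, by simpa using hm, rfl⟩
    · rintro ⟨m, hm, rfl⟩
      exact ⟨m, by simpa using hm, rfl⟩
  have hinj : Set.InjOn (fun m => tabPermD (decodeTab m)) ((C16.toFinset : Finset ℕ) : Set ℕ) := by
    intro a ha b hb e
    have ha' : a ∈ L960c := (List.mem_filter.1 (by simpa using ha : a ∈ C16)).1
    have hb' : b ∈ L960c := (List.mem_filter.1 (by simpa using hb : b ∈ C16)).1
    obtain ⟨hva, -⟩ := L960c_valid ha'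
    obtain ⟨hvb, -⟩ := L960c_valid hb'
    have e' : tabPerm (decodeTab a) hva = tabPerm (decodeTab b) hvb := by
      rw [← tabPermD_eq hva, ← tabPermD_eq hvb]; exact e
    exact List.inj_on_of_nodup_map L960_nodup ha' hb' (tabPerm_inj hva hvb e')
  have h1 : Nat.card (cen UB ⊓ MulAction.stabilizer (Equiv.Perm GolayPt) (pt 0) ⊓
      MulAction.stabilizer (Equiv.Perm GolayPt) (pt 2) : Subgroup (Equiv.Perm GolayPt)) =
      ((cen UB ⊓ MulAction.stabilizer (Equiv.Perm GolayPt) (pt 0) ⊓
      MulAction.stabilizer (Equiv.Perm GolayPt) (pt 2) : Subgroup (Equiv.Perm GolayPt)) :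
        Set (Equiv.Perm GolayPt)).ncard := (Nat.card_coe_set_eq _)
  have hnd : C16.Nodup := L960c_nodup.filter _
  rw [h1, hset, Set.InjOn.ncard_image hinj, Set.ncard_coe_finset,
    List.toFinset_card_of_nodup hnd, C16_length]

/-- the centraliser in `M24` of the standard fixed-point-free involution has order `7680` -/
theorem card_cen_UB : Nat.card (cen UB) = 7680 := by
  have h1 := card_eq_card_mul (cen UB) (pt 0) Finset.univ (fun _ _ => Finset.mem_univ _)
    (fun q _ => by
      obtain ⟨c, hc, -, e⟩ := lev0_spec q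
      exact ⟨c, hc, e⟩)
  have h2 := card_eq_card_mul (cen UB ⊓ MulAction.stabilizer (Equiv.Perm GolayPt) (pt 0)) (pt 2)
    (suppMask orb2) (fun c hc => lev2_sub hc)
    (fun q hq => by
      obtain ⟨c, hc, -, e0, e2⟩ := lev2_spec hq
      exact ⟨c, ⟨hc, e0⟩, e2⟩)
  have h3 : pcI 24 orb2 = 20 := by rw [← pc24_eq]; decide +kernel
  rw [h1, h2, card_H3, Finset.card_univ, card_golayPt, card_suppMask, h3]

/-! ### the centraliser preserves the sextet -/

theorem le_of_transversal {H K : Subgroup (Equiv.Perm GolayPt)} (x : GolayPt)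
    (hW : ∀ σ ∈ H, ∃ τ ∈ H, τ ∈ K ∧ τ x = σ x)
    (hstab : H ⊓ MulAction.stabilizer (Equiv.Perm GolayPt) x ≤ K) : H ≤ K := by
  intro σ hσ
  obtain ⟨τ, hτ, hτK, e⟩ := hW σ hσ
  have h1 : τ⁻¹ * σ ∈ H ⊓ MulAction.stabilizer (Equiv.Perm GolayPt) x := by
    refine ⟨Subgroup.mul_mem _ (Subgroup.inv_mem _ hτ) hσ, ?_⟩
    show τ⁻¹ (σ x) = x
    rw [← e]
    simp
  have h2 := Subgroup.mul_mem _ hτK (hstab h1)
  rwa [mul_inv_cancel_left] at h2

theorem cen_UB_le : cen UB ≤ MulAction.stabilizer (Equiv.Perm GolayPt) S0 := by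
  apply le_of_transversal (pt 0)
  · intro σ _
    obtain ⟨c, hc, hS, e⟩ := lev0_spec (σ (pt 0))
    exact ⟨c, hc, hS, e⟩
  · apply le_of_transversal (pt 2)
    · intro σ hσ
      obtain ⟨c, hc, hS, e0, e2⟩ := lev2_spec (lev2_sub hσ)
      exact ⟨c, ⟨hc, e0⟩, hS, e2⟩
    · intro c hc
      obtain ⟨m, hm, rfl⟩ := mem_H3_iff.1 hc
      have hm' : m ∈ L960c := by
        unfold C16 at hm
        exact (List.mem_filter.1 hm).1
      obtain ⟨hv, -⟩ := L960c_valid hm'
      rw [tabPermD_eq hv]
      exact smul_S0_of_sxOK hv (List.all_eq_true.1 C16_sx m hm)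

theorem cen_UB_S0 {c : Equiv.Perm GolayPt} (hc : c ∈ cen UB) : c • S0 = S0 := cen_UB_le hc

/-- the centraliser of a fixed-point-free involution `t` of `M24`: order `7680`, transitive,
and contained with `t` in the stabiliser of a sextet -/
theorem cen_fpf_involution {t : Equiv.Perm GolayPt} (ht : t ∈ M24) (h2 : orderOf t = 2)
    (h0 : ∀ p, t p ≠ p) :
    Nat.card {c : Equiv.Perm GolayPt // c ∈ M24 ∧ c * t = t * c} = 7680 ∧
    (∀ p q : GolayPt, ∃ c ∈ M24, c * t = t * c ∧ c p = q) ∧
    ∃ S ∈ sextets, t • S = S ∧ ∀ c ∈ M24, c * t = t * c → c • S = S := by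
  obtain ⟨t2, -⟩ := sq_of_order_two h2
  obtain ⟨k, hk, e⟩ := inv_conj_B ht t2 h0
  have hki : k⁻¹ ∈ M24 := Subgroup.inv_mem _ hk
  have e' : k⁻¹ * UB * k⁻¹⁻¹ = t := by rw [← e]; group
  have hto : ∀ c : Equiv.Perm GolayPt, c ∈ cen t → k * c * k⁻¹ ∈ cen UB := by
    intro c hc
    have := cen_conj_mem hk hc
    rwa [e] at this
  have hfrom : ∀ d : Equiv.Perm GolayPt, d ∈ cen UB → k⁻¹ * d * k ∈ cen t := by
    intro d hd
    have := cen_conj_mem hki hd
    rwa [e', inv_inv] at this
  refine ⟨?_, ?_, ?_⟩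
  · rw [← card_cen_UB]
    apply Nat.card_congr
    exact
      { toFun := fun c => ⟨k * c.1 * k⁻¹, hto c.1 c.2⟩
        invFun := fun d => ⟨k⁻¹ * d.1 * k, hfrom d.1 d.2⟩
        left_inv := fun c => by
          apply Subtype.ext
          show k⁻¹ * (k * c.1 * k⁻¹) * k = c.1
          group
        right_inv := fun d => by
          apply Subtype.ext
          show k * (k⁻¹ * d.1 * k) * k⁻¹ = d.1
          group }
  · intro p q
    obtain ⟨c1, hc1, -, e1⟩ := lev0_spec (k p)
    obtain ⟨c2, hc2, -, e2⟩ := lev0_spec (k q)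
    have hd : c2 * c1⁻¹ ∈ cen UB := Subgroup.mul_mem _ hc2 (Subgroup.inv_mem _ hc1)
    have hc := hfrom _ hd
    refine ⟨k⁻¹ * (c2 * c1⁻¹) * k, hc.1, hc.2, ?_⟩
    show k⁻¹ (c2 (c1⁻¹ (k p))) = q
    rw [← e1, show c1⁻¹ (c1 (pt 0)) = pt 0 by simp, e2]
    simp
  · refine ⟨k⁻¹ • S0, smul_mem_sextets' hki S0_mem, ?_, ?_⟩
    · have hU : UB • S0 = S0 := cen_UB_S0 ⟨UB_mem, rfl⟩
      rw [← e', inv_inv, mul_smul, mul_smul, smul_inv_smul, hU]
    · intro c hc hct
      have h1 := cen_UB_S0 (hto c ⟨hc, hct⟩)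
      have h3 : c • k⁻¹ • S0 = k⁻¹ • ((k * c * k⁻¹) • S0) := by
        rw [← mul_smul, ← mul_smul]
        congr 1
        group
      rw [h3, h1]

end Cfsg.Agent.Lib.Helper6.Cls
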