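import Mathlib
import Cfsg.Agent.Lib.Helper6.M24Cen

set_option autoImplicit false

/-! # Normalisers of cyclic subgroups of `M24`: generalities -/

namespace Cfsg.Agent.Lib.Helper6.Cls

open Cfsg Cfsg.Agent.Lib.Helper6.Golay Cfsg.Agent.Lib.Helper6.M24 Cfsg.Agent.Lib.Helper6.M12
open scoped Pointwise

/-- membership in the normaliser of a cyclic subgroup of a finite group -/
theorem mem_normalizer_zpowers_iff {G : Type*} [Group G] [Finite G] (x n : G) :
    n ∈ Subgroup.normalizer ((Subgroup.zpowers x : Subgroup G) : Set G) ↔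
      ∃ i : ℕ, n * x = x ^ i * n := by
  constructor
  · intro h
    have h1 := (Subgroup.mem_normalizer_iff.1 h x).1 (Subgroup.mem_zpowers x)
    have h2 : n * x * n⁻¹ ∈ Submonoid.powers x :=
      (isOfFinOrder_of_finite x).mem_powers_iff_mem_zpowers.2 h1
    obtain ⟨i, hi⟩ := (Submonoid.mem_powers_iff _ _).1 h2
    refine ⟨i, ?_⟩
    rw [hi]; group
  · rintro ⟨i, hi⟩
    apply Subgroup.mem_normalizer_fintype
    intro h hh
    obtain ⟨k, rfl⟩ := Subgroup.mem_zpowers_iff.1 hh
    have e : n * x * n⁻¹ = x ^ i := by rw [hi]; group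
    have e2 : n * x ^ k * n⁻¹ = (x ^ i) ^ k := by
      rw [← e]; exact conj_zpow.symm
    rw [SetLike.mem_coe, e2]
    exact Subgroup.zpow_mem _ (Subgroup.pow_mem _ (Subgroup.mem_zpowers x) i) k

/-- membership in the centraliser of a cyclic subgroup -/
theorem mem_centralizer_zpowers_iff {G : Type*} [Group G] (x n : G) :
    n ∈ Subgroup.centralizer ((Subgroup.zpowers x : Subgroup G) : Set G) ↔ n * x = x * n := by
  rw [Subgroup.mem_centralizer_iff]
  constructor
  · intro h
    exact (h x (Subgroup.mem_zpowers x)).symm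
  · intro h y hy
    obtain ⟨k, rfl⟩ := Subgroup.mem_zpowers_iff.1 hy
    have hc : Commute x n := h.symm
    exact (hc.zpow_left k).eq

/-- the normaliser in `M24` of the cyclic group generated by `t` -/
def nrm (t : Equiv.Perm GolayPt) : Subgroup (Equiv.Perm GolayPt) :=
  M24 ⊓ Subgroup.normalizer
    ((Subgroup.zpowers t : Subgroup (Equiv.Perm GolayPt)) : Set (Equiv.Perm GolayPt))

theorem mem_nrm {t c : Equiv.Perm GolayPt} :
    c ∈ nrm t ↔ c ∈ M24 ∧ ∃ i : ℕ, c * t = t ^ i * c := by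
  unfold nrm
  rw [Subgroup.mem_inf, mem_normalizer_zpowers_iff]

theorem cen_le_nrm (t : Equiv.Perm GolayPt) : cen t ≤ nrm t := by
  intro c hc
  exact mem_nrm.2 ⟨hc.1, 1, by rw [pow_one]; exact hc.2⟩

/-- exponent form with a bounded nonzero exponent -/
theorem nrm_exp {t c : Equiv.Perm GolayPt} {p : ℕ} (hp : 0 < p) (htp : t ^ p = 1) (ht1 : t ≠ 1)
    (hc : c ∈ nrm t) : ∃ i : ℕ, 0 < i ∧ i < p ∧ c * t = t ^ i * c := by
  obtain ⟨-, i, hi⟩ := mem_nrm.1 hc
  refine ⟨i % p, ?_, Nat.mod_lt _ hp, ?_⟩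
  · rcases Nat.eq_zero_or_pos (i % p) with h0 | h0
    · exfalso
      rw [pow_eq_pow_mod i htp, h0, pow_zero, one_mul] at hi
      exact ht1 (mul_left_cancel (hi.trans (mul_one c).symm))
    · exact h0
  · rw [← pow_eq_pow_mod i htp]; exact hi

theorem nrm_pow {t c : Equiv.Perm GolayPt} {i : ℕ} (h : c * t = t ^ i * c) (k : ℕ) :
    c * t ^ k = t ^ (i * k) * c := by
  induction k with
  | zero => simp
  | succ k ih =>
    rw [pow_succ, ← mul_assoc, ih, mul_assoc, h, ← mul_assoc, ← pow_add, Nat.mul_succ]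

/-- an element of the normaliser maps a point with free orbit to a moved point -/
theorem nrm_moved {t c : Equiv.Perm GolayPt} {p : ℕ} (hp : 0 < p) (htp : t ^ p = 1) (ht1 : t ≠ 1)
    {x : GolayPt} (hfree : ∀ j, 0 < j → j < p → (t ^ j) x ≠ x) (hc : c ∈ nrm t) :
    t (c x) ≠ c x := by
  intro hfix
  obtain ⟨j, hj0, hjp, hj⟩ := nrm_exp hp htp ht1 (Subgroup.inv_mem _ hc)
  have h1 := Equiv.Perm.congr_fun hj (c x)
  rw [Equiv.Perm.mul_apply, Equiv.Perm.mul_apply, hfix] at h1
  have h2 : c⁻¹ (c x) = x := by simp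
  rw [h2] at h1
  exact hfree j hj0 hjp h1.symm

theorem nrm_conj_mem {k t c : Equiv.Perm GolayPt} (hk : k ∈ M24) (hc : c ∈ nrm t) :
    k * c * k⁻¹ ∈ nrm (k * t * k⁻¹) := by
  obtain ⟨hcM, i, hi⟩ := mem_nrm.1 hc
  refine mem_nrm.2 ⟨Subgroup.mul_mem _ (Subgroup.mul_mem _ hk hcM) (Subgroup.inv_mem _ hk), i, ?_⟩
  rw [conj_pow]
  calc k * c * k⁻¹ * (k * t * k⁻¹) = k * (c * t) * k⁻¹ := by group
    _ = k * (t ^ i * c) * k⁻¹ := by rw [hi]
    _ = k * t ^ i * k⁻¹ * (k * c * k⁻¹) := by group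

/-- conjugation equivalence between normalisers -/
theorem card_nrm_conj {k t : Equiv.Perm GolayPt} (hk : k ∈ M24) :
    Nat.card (nrm (k * t * k⁻¹)) = Nat.card (nrm t) := by
  have hki : k⁻¹ ∈ M24 := Subgroup.inv_mem _ hk
  have e' : k⁻¹ * (k * t * k⁻¹) * k⁻¹⁻¹ = t := by group
  apply Nat.card_congr
  exact
    { toFun := fun c => ⟨k⁻¹ * c.1 * k, by
        have := nrm_conj_mem hki c.2
        rwa [e', inv_inv] at this⟩
      invFun := fun d => ⟨k * d.1 * k⁻¹, nrm_conj_mem hk d.2⟩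
      left_inv := fun c => by
        apply Subtype.ext
        show k * (k⁻¹ * c.1 * k) * k⁻¹ = c.1
        group
      right_inv := fun d => by
        apply Subtype.ext
        show k⁻¹ * (k * d.1 * k⁻¹) * k = d.1
        group }

/-- conjugation equivalence between centralisers -/
theorem card_cen_conj {k t : Equiv.Perm GolayPt} (hk : k ∈ M24) :
    Nat.card (cen (k * t * k⁻¹)) = Nat.card (cen t) := by
  have hki : k⁻¹ ∈ M24 := Subgroup.inv_mem _ hk
  have e' : k⁻¹ * (k * t * k⁻¹) * k⁻¹⁻¹ = t := by group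
  apply Nat.card_congr
  exact
    { toFun := fun c => ⟨k⁻¹ * c.1 * k, by
        have := cen_conj_mem hki c.2
        rwa [e', inv_inv] at this⟩
      invFun := fun d => ⟨k * d.1 * k⁻¹, cen_conj_mem hk d.2⟩
      left_inv := fun c => by
        apply Subtype.ext
        show k * (k⁻¹ * c.1 * k) * k⁻¹ = c.1
        group
      right_inv := fun d => by
        apply Subtype.ext
        show k⁻¹ * (k * d.1 * k⁻¹) * k = d.1
        group }


/-! ### auxiliary facts on codes -/

/-- equal permutations have equal index functions, as a kernel check -/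
theorem Acts.chk_of_eq {σ τ : Equiv.Perm GolayPt} {f f' : ℕ → ℕ} (h : Acts σ f) (h' : Acts τ f')
    (e : σ = τ) : chk (fun j => Nat.beq (f j) (f' j)) 24 = true := by
  apply chk_of_forall
  intro j hj
  have h1 := h j hj
  have h2 := h' j hj
  rw [e] at h1
  have h4 : f j = f' j := pt_injective h1.1 h2.1 (h1.2.symm.trans h2.2)
  show Nat.beq (f j) (f' j) = true
  rw [h4]
  exact Nat.beq_refl _

theorem L48c_map_nodup : (L48c.map decodeTab).Nodup := by
  rw [L48c_eq]; exact L48_nodup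

theorem L48c_nodup : L48c.Nodup := List.Nodup.of_map decodeTab L48c_map_nodup

theorem L48c_valid {m : ℕ} (hm : m ∈ L48c) :
    ∃ hv : tabValid (decodeTab m) = true, tabPerm (decodeTab m) hv ∈ fixG 31 := by
  have hmem : decodeTab m ∈ L48 := by
    rw [← L48c_eq]; exact List.mem_map_of_mem hm
  have hgood := List.all_eq_true.1 L48_good _ hmem
  have hv := goodTab_valid hgood
  have hmem2 := goodTab_mem hgood
  rw [tabPermD_eq hv] at hmem2
  exact ⟨hv, hmem2⟩

theorem smul_mem_trios' {g : Equiv.Perm GolayPt} (hg : g ∈ M24)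
    {T : Finset (Finset GolayPt)} (hT : T ∈ trios) : g • T ∈ trios := by
  obtain ⟨hcard, hoct, hdis⟩ := hT
  refine ⟨by rw [Finset.card_smul_finset, hcard], ?_, ?_⟩
  · intro c hc
    obtain ⟨c', hc', rfl⟩ := Finset.mem_smul_finset.1 hc
    exact (smul_mem_octads_iff hg).2 (hoct c' hc')
  · intro a ha b hb hne
    obtain ⟨a', ha', rfl⟩ := Finset.mem_smul_finset.1 ha
    obtain ⟨b', hb', rfl⟩ := Finset.mem_smul_finset.1 hb
    have hne' : a' ≠ b' := fun h => hne (by rw [h])
    have h1 := hdis a' ha' b' hb' hne'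
    rw [Finset.disjoint_iff_inter_eq_empty] at h1 ⊢
    rw [← Finset.smul_finset_inter, h1, Finset.smul_finset_empty]

/-! ### bridge to subgroups of `↥M24` -/

/-- the normaliser of a cyclic subgroup of `↥M24` has the cardinality of `nrm` -/
theorem card_normalizer_zpowers (x : ↥M24) :
    Nat.card (Subgroup.normalizer ((Subgroup.zpowers x : Subgroup ↥M24) : Set ↥M24)) =
      Nat.card (nrm (x : Equiv.Perm GolayPt)) := by
  have key : ∀ n : ↥M24, n ∈ Subgroup.normalizer ((Subgroup.zpowers x : Subgroup ↥M24) : Set ↥M24) ↔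
      (n : Equiv.Perm GolayPt) ∈ nrm (x : Equiv.Perm GolayPt) := by
    intro n
    rw [mem_normalizer_zpowers_iff, mem_nrm]
    constructor
    · rintro ⟨i, hi⟩
      exact ⟨n.2, i, congrArg Subtype.val hi⟩
    · rintro ⟨-, i, hi⟩
      exact ⟨i, Subtype.ext hi⟩
  apply Nat.card_congr
  exact
    { toFun := fun n => ⟨n.1.1, (key n.1).1 n.2⟩
      invFun := fun c => ⟨⟨c.1, (mem_nrm.1 c.2).1⟩, (key _).2 c.2⟩
      left_inv := fun n => rfl
      right_inv := fun c => rfl }

theorem mem_normalizer_zpowers_M24 (x n : ↥M24) :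
    n ∈ Subgroup.normalizer ((Subgroup.zpowers x : Subgroup ↥M24) : Set ↥M24) ↔
      (n : Equiv.Perm GolayPt) ∈ nrm (x : Equiv.Perm GolayPt) := by
  rw [mem_normalizer_zpowers_iff, mem_nrm]
  constructor
  · rintro ⟨i, hi⟩
    exact ⟨n.2, i, congrArg Subtype.val hi⟩
  · rintro ⟨-, i, hi⟩
    exact ⟨i, Subtype.ext hi⟩

theorem mem_centralizer_zpowers_M24 (x n : ↥M24) :
    n ∈ Subgroup.centralizer ((Subgroup.zpowers x : Subgroup ↥M24) : Set ↥M24) ↔
      (n : Equiv.Perm GolayPt) ∈ cen (x : Equiv.Perm GolayPt) := by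
  rw [mem_centralizer_zpowers_iff, mem_cen]
  constructor
  · intro h
    exact ⟨n.2, congrArg Subtype.val h⟩
  · rintro ⟨-, h⟩
    exact Subtype.ext h

/-- the centraliser of a cyclic subgroup of `↥M24` has the cardinality of `cen` -/
theorem card_centralizer_zpowers (x : ↥M24) :
    Nat.card (Subgroup.centralizer ((Subgroup.zpowers x : Subgroup ↥M24) : Set ↥M24)) =
      Nat.card (cen (x : Equiv.Perm GolayPt)) := by
  apply Nat.card_congr
  exact
    { toFun := fun n => ⟨n.1.1, (mem_centralizer_zpowers_M24 x n.1).1 n.2⟩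
      invFun := fun c => ⟨⟨c.1, c.2.1⟩, (mem_centralizer_zpowers_M24 x _).2 c.2⟩
      left_inv := fun n => rfl
      right_inv := fun c => rfl }

/-- Sylow conjugacy for subgroups of prime order `p` when `p` divides `|M24|` exactly once -/
theorem exists_conj_gen {p : ℕ} [Fact p.Prime] (hfac : (Nat.card ↥M24).factorization p = 1)
    (y : ↥M24) (hy : orderOf y = p) (S : Subgroup ↥M24) (hS : Nat.card S = p) :
    ∃ g : ↥M24, S = Subgroup.zpowers (g * y * g⁻¹) := by
  have hS0 : Nat.card (Subgroup.zpowers y) = p := by rw [Nat.card_zpowers, hy]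
  obtain ⟨g, hg⟩ := MulAction.exists_smul_eq ↥M24
    (Sylow.ofCard (Subgroup.zpowers y) (by rw [hS0, hfac, pow_one]))
    (Sylow.ofCard S (by rw [hS, hfac, pow_one]))
  have h1 := congrArg (fun P : Sylow p ↥M24 => (P : Subgroup ↥M24)) hg
  simp only [Sylow.coe_subgroup_smul, Sylow.coe_ofCard] at h1
  refine ⟨g, ?_⟩
  have hmem : g * y * g⁻¹ ∈ S := by
    rw [← h1]
    have := Subgroup.smul_mem_pointwise_smul y (MulAut.conj g) (Subgroup.zpowers y)
      (Subgroup.mem_zpowers y)
    simpa using this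
  have hle : Subgroup.zpowers (g * y * g⁻¹) ≤ S := by
    rw [Subgroup.zpowers_le]; exact hmem
  have hord : orderOf (g * y * g⁻¹) = p := by
    rw [← hy]
    exact orderOf_injective (MulAut.conj g).toMonoidHom (MulAut.conj g).injective y
  refine (Subgroup.eq_of_le_of_card_ge hle ?_).symm
  rw [Nat.card_zpowers, hord, hS]

end Cfsg.Agent.Lib.Helper6.Cls
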