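import Mathlib
import Cfsg.Prelude.Def_KGroupFacts

set_option autoImplicit false

/-! # Automorphisms of a permutation group whose subgroups of index `|X|` are point stabilisers

If `G` is a group of permutations of `Ω` acting transitively on an invariant set `X` of points
(and fixing the other points), the stabilisers of the points of `X` are pairwise distinct, and
every subgroup of index `|X|` is such a stabiliser, then every automorphism of `G` is the
conjugation by a permutation of `Ω` normalising `G`. -/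

namespace Cfsg.Agent.Lib.Helper6.OutP

open scoped Pointwise

variable {Ω : Type*} [Fintype Ω] [DecidableEq Ω]

/-- the hypotheses on the permutation group `G` and its set `X` of points -/
structure Pts (G : Subgroup (Equiv.Perm Ω)) (X : Finset Ω) : Prop where
  inv : ∀ g ∈ G, ∀ x ∈ X, g x ∈ X
  trans : ∀ x ∈ X, ∀ y ∈ X, ∃ g ∈ G, g x = y
  fixOut : ∀ g ∈ G, ∀ x, x ∉ X → g x = x
  distinct : ∀ x ∈ X, ∀ y ∈ X, (∀ g ∈ G, g x = x → g y = y) → x = y
  index : ∀ H : Subgroup ↥G, H.index = X.card → ∃ x ∈ X, H = MulAction.stabilizer ↥G x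

omit [Fintype Ω] [DecidableEq Ω] in
/-- the index of a point stabiliser of a group transitive on the invariant set `X` -/
theorem index_stab_of {G : Subgroup (Equiv.Perm Ω)} {X : Finset Ω}
    (inv : ∀ g ∈ G, ∀ x ∈ X, g x ∈ X) (trans : ∀ x ∈ X, ∀ y ∈ X, ∃ g ∈ G, g x = y) {x : Ω}
    (hx : x ∈ X) : (MulAction.stabilizer ↥G x).index = X.card := by
  rw [MulAction.index_stabilizer]
  have : MulAction.orbit ↥G x = (X : Set Ω) := by
    ext y
    rw [MulAction.mem_orbit_iff]
    constructor
    · rintro ⟨g, rfl⟩; exact inv g.1 g.2 x hx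
    · intro hy
      obtain ⟨g, hg, e⟩ := trans x hx y hy
      exact ⟨⟨g, hg⟩, e⟩
  rw [this, Set.ncard_coe_finset]

omit [Fintype Ω] [DecidableEq Ω] in
theorem Pts.index_stab {G : Subgroup (Equiv.Perm Ω)} {X : Finset Ω} (h : Pts G X) {x : Ω}
    (hx : x ∈ X) : (MulAction.stabilizer ↥G x).index = X.card :=
  index_stab_of h.inv h.trans hx

omit [Fintype Ω] [DecidableEq Ω] in
theorem Pts.stab_inj {G : Subgroup (Equiv.Perm Ω)} {X : Finset Ω} (h : Pts G X) {x y : Ω}
    (hx : x ∈ X) (hy : y ∈ X)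
    (e : MulAction.stabilizer ↥G x = MulAction.stabilizer ↥G y) : x = y := by
  apply h.distinct x hx y hy
  intro g hg hgx
  have h1 : (⟨g, hg⟩ : ↥G) ∈ MulAction.stabilizer ↥G x := hgx
  rw [e] at h1
  exact h1

/-- every automorphism is the conjugation by a permutation fixing the points outside `X` -/
theorem Pts.exists_conj {G : Subgroup (Equiv.Perm Ω)} {X : Finset Ω} (h : Pts G X)
    (α : MulAut ↥G) :
    ∃ π : Equiv.Perm Ω, (∀ x, x ∉ X → π x = x) ∧
      ∀ g : ↥G, ((α g : ↥G) : Equiv.Perm Ω) * π = π * (g : Equiv.Perm Ω) := by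
  have key : ∀ x : {x // x ∈ X}, ∃ y : {y // y ∈ X},
      (MulAction.stabilizer ↥G x.1).map α.toMonoidHom = MulAction.stabilizer ↥G y.1 := by
    intro x
    have hi : ((MulAction.stabilizer ↥G x.1).map α.toMonoidHom).index = X.card := by
      rw [Subgroup.index_map_of_bijective α.bijective]
      exact h.index_stab x.2
    obtain ⟨y, hy, e⟩ := h.index _ hi
    exact ⟨⟨y, hy⟩, e⟩
  choose f hf using key
  have finj : Function.Injective f := by
    intro x x' e
    have h1 : (MulAction.stabilizer ↥G x.1).map α.toMonoidHom =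
        (MulAction.stabilizer ↥G x'.1).map α.toMonoidHom := by
      rw [hf x, hf x', e]
    have h2 := Subgroup.map_injective α.injective h1
    exact Subtype.ext (h.stab_inj x.2 x'.2 h2)
  have fbij : Function.Bijective f := Finite.injective_iff_bijective.1 finj
  refine ⟨Equiv.Perm.ofSubtype (Equiv.ofBijective f fbij), ?_, ?_⟩
  · intro x hx
    exact Equiv.Perm.ofSubtype_apply_of_not_mem _ hx
  · intro g
    apply Equiv.ext
    intro x
    show (α g : ↥G).1 (Equiv.Perm.ofSubtype (Equiv.ofBijective f fbij) x) =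
      Equiv.Perm.ofSubtype (Equiv.ofBijective f fbij) (g.1 x)
    by_cases hx : x ∈ X
    · have hgx : g.1 x ∈ X := h.inv g.1 g.2 x hx
      rw [Equiv.Perm.ofSubtype_apply_of_mem _ hx, Equiv.Perm.ofSubtype_apply_of_mem _ hgx]
      show (α g).1 (f ⟨x, hx⟩).1 = (f ⟨g.1 x, hgx⟩).1
      have h1 : MulAction.stabilizer ↥G (g.1 x) =
          (MulAction.stabilizer ↥G x).map (MulAut.conj g).toMonoidHom :=
        MulAction.stabilizer_smul_eq_stabilizer_map_conj g x
      have h2 : MulAction.stabilizer ↥G ((α g).1 (f ⟨x, hx⟩).1) =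
          (MulAction.stabilizer ↥G (f ⟨x, hx⟩).1).map (MulAut.conj (α g)).toMonoidHom :=
        MulAction.stabilizer_smul_eq_stabilizer_map_conj (α g) _
      have h3 : MulAction.stabilizer ↥G (f ⟨g.1 x, hgx⟩).1 =
          MulAction.stabilizer ↥G ((α g).1 (f ⟨x, hx⟩).1) := by
        rw [← hf ⟨g.1 x, hgx⟩, h2, ← hf ⟨x, hx⟩]
        show (MulAction.stabilizer ↥G (g.1 x)).map α.toMonoidHom = _
        rw [h1, Subgroup.map_map, Subgroup.map_map]
        congr 1
        ext y
        simp [MulAut.conj_apply]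
      exact (h.stab_inj (f ⟨g.1 x, hgx⟩).2 (h.inv _ (α g).2 _ (f ⟨x, hx⟩).2) h3).symm
    · rw [Equiv.Perm.ofSubtype_apply_of_not_mem _ hx, h.fixOut g.1 g.2 x hx,
        Equiv.Perm.ofSubtype_apply_of_not_mem _ hx]
      exact h.fixOut _ (α g).2 x hx

/-- if the permutations normalising `G` lie in `G`, then every automorphism of `G` is inner -/
theorem Pts.card_out_eq_one {G : Subgroup (Equiv.Perm Ω)} {X : Finset Ω} (h : Pts G X)
    (hN : ∀ π : Equiv.Perm Ω, (∀ x, x ∉ X → π x = x) → (∀ g ∈ G, π * g * π⁻¹ ∈ G) → π ∈ G) :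
    Nat.card (Cfsg.Out ↥G) = 1 := by
  have htop : Cfsg.Inn ↥G = ⊤ := by
    rw [eq_top_iff]
    intro α _
    obtain ⟨π, hπ1, hπ2⟩ := h.exists_conj α
    have hconj : ∀ g : ↥G, π * (g : Equiv.Perm Ω) * π⁻¹ = ((α g : ↥G) : Equiv.Perm Ω) := by
      intro g; rw [← hπ2 g]; group
    have hπG : π ∈ G := hN π hπ1 (fun g hg => by rw [hconj ⟨g, hg⟩]; exact (α ⟨g, hg⟩).2)
    refine ⟨⟨π, hπG⟩, ?_⟩
    apply MulEquiv.ext
    intro g
    apply Subtype.ext
    rw [MulAut.conj_apply]
    exact hconj g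
  show (Cfsg.Inn ↥G).index = 1
  rw [htop, Subgroup.index_top]

end Cfsg.Agent.Lib.Helper6.OutP
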