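import Mathlib
import Cfsg.Agent.Lib.Helper6.OutPerm

set_option autoImplicit false

/-! # The order of the outer automorphism group of a permutation group as an index -/

namespace Cfsg.Agent.Lib.Helper6.OutP

open scoped Pointwise

variable {Ω : Type*} [Fintype Ω] [DecidableEq Ω]

omit [Fintype Ω] [DecidableEq Ω] in
/-- a permutation fixing the points outside `X` and commuting with `G` is trivial -/
theorem Pts.eq_one_of_comm {G : Subgroup (Equiv.Perm Ω)} {X : Finset Ω} (h : Pts G X)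
    {π : Equiv.Perm Ω} (h0 : ∀ x, x ∉ X → π x = x) (hc : ∀ g ∈ G, π * g = g * π) : π = 1 := by
  apply Equiv.ext
  intro x
  show π x = x
  by_cases hx : x ∈ X
  · have hπx : π x ∈ X := by
      by_contra hn
      have h1 := h0 _ hn
      exact hn (by rw [π.injective h1]; exact hx)
    symm
    apply h.distinct x hx (π x) hπx
    intro g hg hgx
    have h1 := Equiv.Perm.congr_fun (hc g hg) x
    rw [Equiv.Perm.mul_apply, Equiv.Perm.mul_apply, hgx] at h1
    exact h1.symm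
  · exact h0 x hx

/-- the automorphism of `G` induced by a normalising permutation -/
def conjAut (G : Subgroup (Equiv.Perm Ω)) (π : Equiv.Perm Ω) (h1 : ∀ g ∈ G, π * g * π⁻¹ ∈ G)
    (h2 : ∀ g ∈ G, π⁻¹ * g * π ∈ G) : MulAut ↥G where
  toFun g := ⟨π * g.1 * π⁻¹, h1 g.1 g.2⟩
  invFun g := ⟨π⁻¹ * g.1 * π, h2 g.1 g.2⟩
  left_inv g := by
    apply Subtype.ext
    show π⁻¹ * (π * g.1 * π⁻¹) * π = g.1
    group
  right_inv g := by
    apply Subtype.ext
    show π * (π⁻¹ * g.1 * π) * π⁻¹ = g.1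
    group
  map_mul' a b := by
    apply Subtype.ext
    show π * (a.1 * b.1) * π⁻¹ = π * a.1 * π⁻¹ * (π * b.1 * π⁻¹)
    group

/-- `|Out G| * |G| = |N|`, where `N` is the group of the permutations fixing the points outside
`X` and normalising `G` -/
theorem Pts.card_out_mul {G : Subgroup (Equiv.Perm Ω)} {X : Finset Ω} (h : Pts G X)
    (N : Subgroup (Equiv.Perm Ω))
    (hN : ∀ π, π ∈ N ↔ (∀ x, x ∉ X → π x = x) ∧ ∀ g ∈ G, π * g * π⁻¹ ∈ G) :
    Nat.card (Cfsg.Out ↥G) * Nat.card G = Nat.card N := by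
  have hN2 : ∀ π ∈ N, ∀ g ∈ G, π⁻¹ * g * π ∈ G := by
    intro π hπ g hg
    have := ((hN π⁻¹).1 (Subgroup.inv_mem _ hπ)).2 g hg
    rwa [inv_inv] at this
  -- the automorphism group is in bijection with `N`
  have hbij : Function.Bijective
      (fun π : ↥N => conjAut G π.1 ((hN π.1).1 π.2).2 (hN2 π.1 π.2)) := by
    constructor
    · intro π π' e
      apply Subtype.ext
      have key : ∀ g ∈ G, (π'.1⁻¹ * π.1) * g = g * (π'.1⁻¹ * π.1) := by
        intro g hg
        have h1 := congrArg (fun α : MulAut ↥G => ((α ⟨g, hg⟩ : ↥G) : Equiv.Perm Ω)) e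
        have h2 : π.1 * g * π.1⁻¹ = π'.1 * g * π'.1⁻¹ := h1
        calc (π'.1⁻¹ * π.1) * g = π'.1⁻¹ * (π.1 * g * π.1⁻¹) * π.1 := by group
          _ = π'.1⁻¹ * (π'.1 * g * π'.1⁻¹) * π.1 := by rw [h2]
          _ = g * (π'.1⁻¹ * π.1) := by group
      have h0 : ∀ x, x ∉ X → (π'.1⁻¹ * π.1) x = x := by
        intro x hx
        rw [Equiv.Perm.mul_apply, ((hN π.1).1 π.2).1 x hx, Equiv.Perm.inv_eq_iff_eq,
          ((hN π'.1).1 π'.2).1 x hx]
      have h1 := h.eq_one_of_comm h0 key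
      calc π.1 = π'.1 * (π'.1⁻¹ * π.1) := by group
        _ = π'.1 := by rw [h1, mul_one]
    · intro α
      obtain ⟨π, hπ1, hπ2⟩ := h.exists_conj α
      have hconj : ∀ g : ↥G, π * (g : Equiv.Perm Ω) * π⁻¹ = ((α g : ↥G) : Equiv.Perm Ω) := by
        intro g; rw [← hπ2 g]; group
      have hπN : π ∈ N :=
        (hN π).2 ⟨hπ1, fun g hg => by rw [hconj ⟨g, hg⟩]; exact (α ⟨g, hg⟩).2⟩
      refine ⟨⟨π, hπN⟩, ?_⟩
      apply MulEquiv.ext
      intro g
      apply Subtype.ext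
      exact hconj g
  have hAut : Nat.card (MulAut ↥G) = Nat.card N := (Nat.card_eq_of_bijective _ hbij).symm
  -- the inner automorphism group is in bijection with `G`
  have hinj : Function.Injective (MulAut.conj : ↥G →* MulAut ↥G) := by
    intro a b e
    have key : ∀ g ∈ G, ((b⁻¹ * a : ↥G) : Equiv.Perm Ω) * g = g * ((b⁻¹ * a : ↥G) : Equiv.Perm Ω) := by
      intro g hg
      have h1 := congrArg (fun α : MulAut ↥G => ((α ⟨g, hg⟩ : ↥G) : Equiv.Perm Ω)) e
      have h2 : a.1 * g * a.1⁻¹ = b.1 * g * b.1⁻¹ := h1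
      show (b.1⁻¹ * a.1) * g = g * (b.1⁻¹ * a.1)
      calc (b.1⁻¹ * a.1) * g = b.1⁻¹ * (a.1 * g * a.1⁻¹) * a.1 := by group
        _ = b.1⁻¹ * (b.1 * g * b.1⁻¹) * a.1 := by rw [h2]
        _ = g * (b.1⁻¹ * a.1) := by group
    have h1 := h.eq_one_of_comm (fun x hx => h.fixOut _ (b⁻¹ * a).2 x hx) key
    have h2 : b⁻¹ * a = 1 := Subtype.ext h1
    calc a = b * (b⁻¹ * a) := by group
      _ = b := by rw [h2, mul_one]
  have hInn : Nat.card (Cfsg.Inn ↥G) = Nat.card G :=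
    (Nat.card_congr (MonoidHom.ofInjective hinj).toEquiv).symm
  have hL := Subgroup.index_mul_card (Cfsg.Inn ↥G)
  rw [hInn, hAut] at hL
  exact hL

end Cfsg.Agent.Lib.Helper6.OutP
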