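import Mathlib

/-!
# A bit-coded model of the extraspecial group `2^{1+4}_-` (`D8 ∗ Q8`) and its automorphisms

`M32` has elements `(e, v)` with `e : Bool`, `v : Fin 16` (four bits `x1 y1 x2 y2`) and
multiplication `(e, v) (e', v') = (e + e' + c(v, v'), v + v')`,
`c(v, v') = x1 y1' + x2 x2' + x2 y2' + y2 y2'`.
-/

set_option autoImplicit false

namespace Cfsg.Agent.Lib.Helper6.ES2m

/-- xor on `Fin 16`. -/
def fx (a b : Fin 16) : Fin 16 :=
  ⟨a.val ^^^ b.val, Nat.xor_lt_two_pow (n := 4) a.isLt b.isLt⟩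

theorem fx_assoc (a b c : Fin 16) : fx (fx a b) c = fx a (fx b c) := by
  apply Fin.ext; simp only [fx]; exact Nat.xor_assoc _ _ _

theorem fx_comm (a b : Fin 16) : fx a b = fx b a := by
  apply Fin.ext; simp only [fx]; exact Nat.xor_comm _ _

theorem fx_self (a : Fin 16) : fx a a = 0 := by
  apply Fin.ext; simp only [fx]; simp

theorem fx_zero (a : Fin 16) : fx a 0 = a := by
  apply Fin.ext; simp only [fx]; simp

theorem zero_fx (a : Fin 16) : fx 0 a = a := by
  apply Fin.ext; simp only [fx]; simp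

/-- the bilinear cocycle. -/
def cB (v w : Fin 16) : Bool :=
  (((v.val.testBit 0 && w.val.testBit 1) ^^ (v.val.testBit 2 && w.val.testBit 2)) ^^
    (v.val.testBit 2 && w.val.testBit 3)) ^^ (v.val.testBit 3 && w.val.testBit 3)

theorem cB_fx_left (a b c : Fin 16) : cB (fx a b) c = (cB a c ^^ cB b c) := by
  simp only [cB, fx, Nat.testBit_xor]
  generalize a.val.testBit 0 = a0; generalize a.val.testBit 2 = a2
  generalize a.val.testBit 3 = a3; generalize b.val.testBit 0 = b0
  generalize b.val.testBit 2 = b2; generalize b.val.testBit 3 = b3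
  generalize c.val.testBit 1 = c1; generalize c.val.testBit 2 = c2
  generalize c.val.testBit 3 = c3
  revert a0 a2 a3 b0 b2 b3 c1 c2 c3; decide

theorem cB_fx_right (a b c : Fin 16) : cB a (fx b c) = (cB a b ^^ cB a c) := by
  simp only [cB, fx, Nat.testBit_xor]
  generalize a.val.testBit 0 = a0; generalize a.val.testBit 2 = a2
  generalize a.val.testBit 3 = a3; generalize b.val.testBit 1 = b1
  generalize b.val.testBit 2 = b2; generalize b.val.testBit 3 = b3
  generalize c.val.testBit 1 = c1; generalize c.val.testBit 2 = c2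
  generalize c.val.testBit 3 = c3
  revert a0 a2 a3 b1 b2 b3 c1 c2 c3; decide

theorem cB_zero_left (a : Fin 16) : cB 0 a = false := by
  simp [cB]

theorem cB_zero_right (a : Fin 16) : cB a 0 = false := by
  simp [cB]

/-- The model of `2^{1+4}_-`. -/
@[ext] structure M32 where
  e : Bool
  v : Fin 16
deriving DecidableEq, Fintype

instance : Mul M32 := ⟨fun a b => ⟨(a.e ^^ b.e) ^^ cB a.v b.v, fx a.v b.v⟩⟩
instance : One M32 := ⟨⟨false, 0⟩⟩
instance : Inv M32 := ⟨fun a => ⟨a.e ^^ cB a.v a.v, a.v⟩⟩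

theorem mul_def (a b : M32) : a * b = ⟨(a.e ^^ b.e) ^^ cB a.v b.v, fx a.v b.v⟩ := rfl
theorem one_def : (1 : M32) = ⟨false, 0⟩ := rfl
theorem inv_def (a : M32) : a⁻¹ = ⟨a.e ^^ cB a.v a.v, a.v⟩ := rfl

instance : Group M32 :=
  Group.ofLeftAxioms
    (by
      intro a b c
      simp only [mul_def, M32.mk.injEq]
      refine ⟨?_, fx_assoc _ _ _⟩
      rw [cB_fx_left, cB_fx_right]
      generalize a.e = p1; generalize b.e = p2; generalize c.e = p3
      generalize cB a.v b.v = q1; generalize cB a.v c.v = q2; generalize cB b.v c.v = q3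
      revert p1 p2 p3 q1 q2 q3; decide)
    (by
      rintro ⟨e, v⟩
      simp only [mul_def, one_def, M32.mk.injEq, cB_zero_left, zero_fx]
      cases e <;> simp)
    (by
      rintro ⟨e, v⟩
      simp only [mul_def, inv_def, one_def, M32.mk.injEq, fx_self]
      cases e <;> cases cB v v <;> simp)

theorem card_M32 : Nat.card M32 = 32 := by
  rw [Nat.card_eq_fintype_card]; rfl

/-- the central involution. -/
def z : M32 := ⟨true, 0⟩

theorem z_mul_z : z * z = 1 := by decide

theorem z_ne_one : z ≠ 1 := by decide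

theorem z_comm : ∀ a : M32, z * a = a * z := by decide

theorem central_cases : ∀ a : M32, (∀ b, a * b = b * a) → a = 1 ∨ a = z := by decide

theorem comm_cases : ∀ a b : M32, a * b = b * a ∨ a * b = z * (b * a) := by decide

theorem exists_noncomm : ∃ a b : M32, a * b ≠ b * a := ⟨⟨false, 1⟩, ⟨false, 2⟩, by decide⟩

/-- two commuting involutions: one of them, or their product, is central. -/
theorem invol_pair : ∀ a b : M32, a * a = 1 → b * b = 1 → a * b = b * a →
    a = 1 ∨ b = 1 ∨ a = b ∨ a = z ∨ b = z ∨ a * b = z := by decide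

/-- representatives of the five singular points. -/
def rep : Fin 5 → M32 := ![⟨false, 1⟩, ⟨false, 2⟩, ⟨false, 7⟩, ⟨false, 11⟩, ⟨false, 15⟩]

/-- label of a singular point. -/
def lab (x : M32) : Fin 5 :=
  if x.v = 1 then 0 else if x.v = 2 then 1 else if x.v = 7 then 2 else if x.v = 11 then 3 else 4

/-- non-central involutions. -/
def IsInv (x : M32) : Prop := x * x = 1 ∧ x ≠ 1 ∧ x ≠ z

instance : DecidablePred IsInv := fun x => by unfold IsInv; infer_instance

theorem isInv_rep : ∀ i : Fin 5, IsInv (rep i) := by decide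

theorem lab_rep : ∀ i : Fin 5, lab (rep i) = i := by decide

theorem isInv_cases : ∀ x : M32, IsInv x → x = rep (lab x) ∨ x = z * rep (lab x) := by decide

theorem lab_z_mul : ∀ x : M32, lab (z * x) = lab x := by decide

theorem lab_conj : ∀ (a : M32) (i : Fin 5), lab (a * rep i * a⁻¹) = i := by decide

/-- the reflection automorphism attached to `α = rep i * rep j`. -/
def tauFun (i j : Fin 5) (x : M32) : M32 :=
  if x * (rep i * rep j) = (rep i * rep j) * x then x else x * (rep i * rep j)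

theorem tau_mul : ∀ i j : Fin 5, i ≠ j → ∀ x y : M32,
    tauFun i j (x * y) = tauFun i j x * tauFun i j y := by decide +kernel

theorem tau_inj : ∀ i j : Fin 5, i ≠ j → ∀ x y : M32, tauFun i j x = tauFun i j y → x = y := by
  decide +kernel

theorem tau_lab : ∀ i j : Fin 5, i ≠ j → ∀ k : Fin 5,
    lab (tauFun i j (rep k)) = Equiv.swap i j k := by decide +kernel

/-- `z ^ b`. -/
def zp (b : Bool) : M32 := if b then z else 1

theorem ker_aux : ∀ e0 e1 e2 e3 e4 : Bool,
    (zp e0 * rep 0) * (zp e1 * rep 1) * (zp e2 * rep 2) * (zp e3 * rep 3) * (zp e4 * rep 4) =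
      rep 0 * rep 1 * rep 2 * rep 3 * rep 4 →
    ∃ a : M32, a * rep 0 * a⁻¹ = zp e0 * rep 0 ∧ a * rep 1 * a⁻¹ = zp e1 * rep 1 ∧
      a * rep 2 * a⁻¹ = zp e2 * rep 2 ∧ a * rep 3 * a⁻¹ = zp e3 * rep 3 ∧
      a * rep 4 * a⁻¹ = zp e4 * rep 4 := by decide +kernel

theorem prod_rep : rep 0 * rep 1 * rep 2 * rep 3 * rep 4 = z := by decide

theorem z_eq : rep 0 * rep 1 * (rep 0 * rep 1) = z := by decide

/-- `y ^ b`. -/
def pw (b : Bool) (y : M32) : M32 := if b then y else 1

theorem gen_aux : ∀ x : M32, ∃ b0 b1 b2 b3 b4 b5 : Bool,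
    x = zp b5 * (pw b0 (rep 0) * pw b1 (rep 1) * pw b2 (rep 2) * pw b3 (rep 3) * pw b4 (rep 4)) := by
  decide +kernel

theorem closure_rep : Subgroup.closure (Set.range rep) = ⊤ := by
  rw [Subgroup.eq_top_iff']
  intro x
  obtain ⟨b0, b1, b2, b3, b4, b5, rfl⟩ := gen_aux x
  have hr : ∀ i, rep i ∈ Subgroup.closure (Set.range rep) := fun i =>
    Subgroup.subset_closure ⟨i, rfl⟩
  have hpw : ∀ (b : Bool) (i : Fin 5), pw b (rep i) ∈ Subgroup.closure (Set.range rep) := by
    intro b i
    cases b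
    · exact one_mem _
    · exact hr i
  have hz : ∀ b : Bool, zp b ∈ Subgroup.closure (Set.range rep) := by
    intro b
    cases b
    · exact one_mem _
    · show z ∈ _
      rw [← z_eq]
      exact mul_mem (mul_mem (hr 0) (hr 1)) (mul_mem (hr 0) (hr 1))
  exact mul_mem (hz _) (mul_mem (mul_mem (mul_mem (mul_mem (hpw _ _) (hpw _ _)) (hpw _ _))
    (hpw _ _)) (hpw _ _))

end Cfsg.Agent.Lib.Helper6.ES2m
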