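import Mathlib
import Cfsg.Agent.Lib.Helper6.OutPerm
import Cfsg.Agent.Lib.Helper6.OctRec
import Cfsg.Agent.Lib.Helper86.MathieuOrders
import Cfsg.Agent.Lib.Helper7.GolaySimple

set_option autoImplicit false

/-! # Orbits of subgroups of `M24`, and the automorphisms of `M23` -/

namespace Cfsg.Agent.Lib.Helper6.OutP

open Cfsg Cfsg.Agent.Lib.Helper6.Golay Cfsg.Agent.Lib.Helper6.M24 Cfsg.Agent.Lib.Helper6.Cls
open Cfsg.Agent.Lib.Helper86 (mem_M23_iff mem_M22_iff card_M23 card_M22)
open scoped Pointwise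

/-- an element of prime order `p` in a group of permutations of order divisible by `p` -/
theorem exists_prime_elt (H : Subgroup (Equiv.Perm GolayPt)) (p : ℕ) [Fact p.Prime]
    (hd : p ∣ Nat.card H) : ∃ σ ∈ H, σ ^ p = 1 ∧ σ ≠ 1 := by
  obtain ⟨x, hx⟩ := exists_prime_orderOf_dvd_card' (G := ↥H) p hd
  refine ⟨x.1, x.2, ?_, ?_⟩
  · have h1 : x ^ p = 1 := by rw [← hx]; exact pow_orderOf_eq_one x
    have := congrArg Subtype.val h1
    simpa using this
  · intro h
    have h1 : x = 1 := Subtype.ext h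
    rw [h1, orderOf_one] at hx
    exact (Fact.out : p.Prime).one_lt.ne hx

open Classical in
/-- the orbit of a point under a group of permutations, as a finset -/
noncomputable def orb (H : Subgroup (Equiv.Perm GolayPt)) (p : GolayPt) : Finset GolayPt :=
  Finset.univ.filter fun q => ∃ h ∈ H, h p = q

theorem mem_orb {H : Subgroup (Equiv.Perm GolayPt)} {p q : GolayPt} :
    q ∈ orb H p ↔ ∃ h ∈ H, h p = q := by
  simp only [orb, Finset.mem_filter, Finset.mem_univ, true_and]

theorem self_mem_orb {H : Subgroup (Equiv.Perm GolayPt)} {p : GolayPt} : p ∈ orb H p :=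
  mem_orb.2 ⟨1, Subgroup.one_mem _, rfl⟩

theorem orb_inv {H : Subgroup (Equiv.Perm GolayPt)} {p : GolayPt} {h : Equiv.Perm GolayPt}
    (hh : h ∈ H) {q : GolayPt} (hq : q ∈ orb H p) : h q ∈ orb H p := by
  obtain ⟨k, hk, rfl⟩ := mem_orb.1 hq
  exact mem_orb.2 ⟨h * k, Subgroup.mul_mem _ hh hk, rfl⟩

theorem card_orb_mul (H : Subgroup (Equiv.Perm GolayPt)) (p : GolayPt) :
    Nat.card H = (orb H p).card *
      Nat.card (H ⊓ MulAction.stabilizer (Equiv.Perm GolayPt) p : Subgroup (Equiv.Perm GolayPt)) :=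
  card_eq_card_mul H p (orb H p) (fun h hh => mem_orb.2 ⟨h, hh, rfl⟩) (fun _ hq => mem_orb.1 hq)

theorem card_orb_dvd (H : Subgroup (Equiv.Perm GolayPt)) (p : GolayPt) :
    (orb H p).card ∣ Nat.card H :=
  Dvd.intro _ (card_orb_mul H p).symm

theorem card_orb_modEq {H : Subgroup (Equiv.Perm GolayPt)} {p : GolayPt} {σ : Equiv.Perm GolayPt}
    (hσ : σ ∈ H) {r : ℕ} [Fact r.Prime] (hr : σ ^ r = 1) :
    (orb H p).card ≡ ((orb H p).filter (fun q => σ q = q)).card [MOD r] :=
  card_modEq_fixed σ r hr (orb H p) (fun _ hq => orb_inv hσ hq)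

theorem eq_of_card_orb_eq_one {H : Subgroup (Equiv.Perm GolayPt)} {p : GolayPt}
    (h1 : (orb H p).card = 1) {h : Equiv.Perm GolayPt} (hh : h ∈ H) : h p = p := by
  have h2 : h p ∈ orb H p := mem_orb.2 ⟨h, hh, rfl⟩
  obtain ⟨a, ha⟩ := Finset.card_eq_one.1 h1
  have h3 : p ∈ orb H p := self_mem_orb
  rw [ha, Finset.mem_singleton] at h2 h3
  rw [h2, h3]

/-! ### `M23` -/

/-- the points other than `none` -/
def X23 : Finset GolayPt := Finset.univ.erase none

theorem mem_X23 {x : GolayPt} : x ∈ X23 ↔ x ≠ none := by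
  unfold X23
  rw [Finset.mem_erase]
  exact ⟨fun h => h.1, fun h => ⟨h, Finset.mem_univ _⟩⟩

theorem card_X23 : X23.card = 23 := by
  unfold X23
  rw [Finset.card_erase_of_mem (Finset.mem_univ _), Finset.card_univ, card_golayPt]

theorem M23_le : Spor.M23 ≤ M24 := fun _ hg => (mem_M23_iff.1 hg).1

theorem M23_inv : ∀ g ∈ Spor.M23, ∀ x ∈ X23, g x ∈ X23 := by
  intro g hg x hx
  rw [mem_X23] at hx ⊢
  intro e
  exact hx (g.injective (e.trans (mem_M23_iff.1 hg).2.symm))

theorem M23_trans : ∀ x ∈ X23, ∀ y ∈ X23, ∃ g ∈ Spor.M23, g x = y := by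
  intro x hx y hy
  rw [mem_X23] at hx hy
  obtain ⟨g, hg, h1, h2⟩ := Cfsg.Agent.Lib.Helper7.M24_trans2 (x1 := none) (x2 := x)
    (y1 := none) (y2 := y) (Ne.symm hx) (Ne.symm hy)
  exact ⟨g, mem_M23_iff.2 ⟨hg, h1⟩, h2⟩

/-- a subgroup of `M23` of order `443520` fixes a point other than `none` -/
theorem M23_fix_point {H : Subgroup (Equiv.Perm GolayPt)} (hH : H ≤ Spor.M23)
    (hc : Nat.card H = 443520) : ∃ p, p ≠ none ∧ ∀ h ∈ H, h p = p := by
  have i11 : Fact (Nat.Prime 11) := ⟨by norm_num⟩
  have i7 : Fact (Nat.Prime 7) := ⟨by norm_num⟩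
  obtain ⟨σ, hσH, hσ11, hσ1⟩ := exists_prime_elt H 11 (by rw [hc]; norm_num)
  obtain ⟨τ, hτH, hτ7, hτ1⟩ := exists_prime_elt H 7 (by rw [hc]; norm_num)
  have hσM := mem_M23_iff.1 (hH hσH)
  have hτM := mem_M23_iff.1 (hH hτH)
  have hcσ : (Finset.univ.filter fun q => σ q = q).card = 2 :=
    card_fixed_of_prime hσM.1 hσ11 hσ1 2 (by decide)
  have hcτ : (Finset.univ.filter fun q => τ q = q).card = 3 :=
    card_fixed_of_prime hτM.1 hτ7 hτ1 3 (by decide)
  have hnσ : (none : GolayPt) ∈ Finset.univ.filter fun q => σ q = q := by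
    rw [Finset.mem_filter]; exact ⟨Finset.mem_univ _, hσM.2⟩
  have hnτ : (none : GolayPt) ∈ Finset.univ.filter fun q => τ q = q := by
    rw [Finset.mem_filter]; exact ⟨Finset.mem_univ _, hτM.2⟩
  have h1 : ((Finset.univ.filter fun q => σ q = q).erase none).card = 1 := by
    rw [Finset.card_erase_of_mem hnσ, hcσ]
  obtain ⟨p, hp⟩ := Finset.card_eq_one.1 h1
  have hp' : p ∈ (Finset.univ.filter fun q => σ q = q).erase none := by
    rw [hp]; exact Finset.mem_singleton_self p
  rw [Finset.mem_erase, Finset.mem_filter] at hp'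
  obtain ⟨hpn, -, hσp⟩ := hp'
  have honly : ∀ q, σ q = q → q = none ∨ q = p := by
    intro q hq
    by_cases hqn : q = none
    · exact Or.inl hqn
    · right
      have : q ∈ (Finset.univ.filter fun q => σ q = q).erase none := by
        rw [Finset.mem_erase, Finset.mem_filter]; exact ⟨hqn, Finset.mem_univ _, hq⟩
      rw [hp] at this
      exact Finset.mem_singleton.1 this
  have hnO : (none : GolayPt) ∉ orb H p := by
    intro h
    obtain ⟨k, hk, e⟩ := mem_orb.1 h
    have hk2 := (mem_M23_iff.1 (hH hk)).2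
    exact hpn (k.injective (e.trans hk2.symm))
  have hle : (orb H p).card ≤ 23 := by
    have hsub : orb H p ⊆ X23 := by
      intro q hq
      rw [mem_X23]
      exact fun e => hnO (e ▸ hq)
    have := Finset.card_le_card hsub
    rwa [card_X23] at this
  have hdvd : (orb H p).card ∣ 443520 := by rw [← hc]; exact card_orb_dvd H p
  have h11 := card_orb_modEq (p := p) hσH hσ11
  have hf11 : ((orb H p).filter (fun q => σ q = q)) = {p} := by
    ext q
    rw [Finset.mem_filter, Finset.mem_singleton]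
    constructor
    · rintro ⟨hq, hfix⟩
      rcases honly q hfix with h | h
      · exact absurd (h ▸ hq) hnO
      · exact h
    · rintro rfl
      exact ⟨self_mem_orb, hσp⟩
  rw [hf11, Finset.card_singleton] at h11
  have h7 := card_orb_modEq (p := p) hτH hτ7
  have hf7 : ((orb H p).filter (fun q => τ q = q)).card ≤ 2 := by
    have hsub : (orb H p).filter (fun q => τ q = q) ⊆
        (Finset.univ.filter fun q => τ q = q).erase none := by
      intro q hq
      rw [Finset.mem_filter] at hq
      rw [Finset.mem_erase, Finset.mem_filter]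
      exact ⟨fun e => hnO (e ▸ hq.1), Finset.mem_univ _, hq.2⟩
    have := Finset.card_le_card hsub
    rwa [Finset.card_erase_of_mem hnτ, hcτ] at this
  have hn1 : (orb H p).card = 1 := by
    have e11 : (orb H p).card % 11 = 1 := h11
    have e7 : (orb H p).card % 7 = ((orb H p).filter (fun q => τ q = q)).card % 7 := h7
    have ed : 443520 % (orb H p).card = 0 := Nat.mod_eq_zero_of_dvd hdvd
    generalize ((orb H p).filter (fun q => τ q = q)).card = f at e7 hf7
    generalize (orb H p).card = n at e11 e7 ed hle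
    interval_cases n <;> omega
  exact ⟨p, hpn, fun h hh => eq_of_card_orb_eq_one hn1 hh⟩

/-- the group `M23` with its `23` points satisfies the hypotheses of the automorphism lemma -/
theorem pts_M23 : Pts Spor.M23 X23 where
  inv := M23_inv
  trans := M23_trans
  fixOut := by
    intro g hg x hx
    rw [mem_X23, not_not] at hx
    rw [hx]
    exact (mem_M23_iff.1 hg).2
  distinct := by
    intro x hx y hy h
    by_contra hne
    rw [mem_X23] at hx hy
    obtain ⟨z, hz⟩ : ∃ z, z ∉ ({none, x, y} : Finset GolayPt) := by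
      by_contra hc
      push Not at hc
      have h1 : (Finset.univ : Finset GolayPt) ⊆ {none, x, y} := fun z _ => hc z
      have h2 := Finset.card_le_card h1
      rw [Finset.card_univ, card_golayPt] at h2
      have h3 : ({none, x, y} : Finset GolayPt).card ≤ 3 := Finset.card_le_three
      omega
    simp only [Finset.mem_insert, Finset.mem_singleton, not_or] at hz
    obtain ⟨hzn, hzx, hzy⟩ := hz
    obtain ⟨g, hg, h1, h2, h3⟩ := Cfsg.Agent.Lib.Helper7.M24_trans3 (x1 := none) (x2 := x)
      (x3 := y) (y1 := none) (y2 := x) (y3 := z) (Ne.symm hx) (Ne.symm hy) hne (Ne.symm hx)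
      (Ne.symm hzn) (Ne.symm hzx)
    have h4 := h g (mem_M23_iff.2 ⟨hg, h1⟩) h2
    rw [h3] at h4
    exact hzy h4
  index := by
    intro H hH
    rw [card_X23] at hH
    have hcH : Nat.card H = 443520 := by
      have := Subgroup.index_mul_card H
      rw [hH, card_M23] at this
      omega
    obtain ⟨p, hpn, hfix⟩ := M23_fix_point (H := H.map Spor.M23.subtype)
      (by rintro _ ⟨h, -, rfl⟩; exact h.2)
      (by rw [Subgroup.card_map_of_injective (Subgroup.subtype_injective _), hcH])
    have hpX : p ∈ X23 := mem_X23.2 hpn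
    refine ⟨p, hpX, ?_⟩
    have hle : H ≤ MulAction.stabilizer ↥Spor.M23 p := by
      intro h hh
      exact hfix h.1 ⟨h, hh, rfl⟩
    apply Subgroup.eq_of_le_of_card_ge hle
    have h1 := index_stab_of M23_inv M23_trans hpX
    have h2 := Subgroup.index_mul_card (MulAction.stabilizer ↥Spor.M23 p)
    rw [h1, card_M23, card_X23] at h2
    omega

/-- a permutation fixing `none` and normalising `M23` lies in `M23` -/
theorem M23_normalizer {π : Equiv.Perm GolayPt} (h0 : ∀ x, x ∉ X23 → π x = x)
    (hπ : ∀ g ∈ Spor.M23, π * g * π⁻¹ ∈ Spor.M23) : π ∈ Spor.M23 := by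
  have hπn : π none = none := h0 none (by rw [mem_X23]; simp)
  refine mem_M23_iff.2 ⟨mem_M24_of_octads_none ?_, hπn⟩
  intro B hB hnB
  have hsub : ({none} : Finset GolayPt) ⊆ B := Finset.singleton_subset_iff.2 hnB
  apply smul_mem_octads_of_normalizes M23_le hπ hB hsub
  · intro g hg x hx
    rw [Finset.mem_singleton] at hx
    rw [hx]; exact (mem_M23_iff.1 hg).2
  · intro x hx
    rw [Finset.mem_singleton] at hx
    rw [hx]; exact hπn
  · have hc7 : (B \ {none}).card = 7 := by
      rw [Finset.card_sdiff_of_subset hsub, hB.2]; rfl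
    rw [hc7]
    have h1 := card_le_card_mul (M24 ⊓ MulAction.stabilizer (Equiv.Perm GolayPt) B) none B
      (fun h hh => by
        have e : h • B = B := hh.2
        rw [← e]; exact Finset.smul_mem_smul_finset hnB)
    rw [Cfsg.Agent.Lib.Helper26.card_octadStab B hB, hB.2] at h1
    have e : (M24 ⊓ MulAction.stabilizer (Equiv.Perm GolayPt) B ⊓
        MulAction.stabilizer (Equiv.Perm GolayPt) (none : GolayPt) :
          Subgroup (Equiv.Perm GolayPt)) =
        Spor.M23 ⊓ MulAction.stabilizer (Equiv.Perm GolayPt) B := by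
      unfold Spor.M23; rw [inf_right_comm]
    rw [e] at h1
    have h7 : Nat.factorial 7 = 5040 := by decide
    omega

/-- every automorphism of `M23` is inner -/
theorem card_out_M23 : Nat.card (Cfsg.Out ↥Spor.M23) = 1 :=
  pts_M23.card_out_eq_one (fun _ h0 hπ => M23_normalizer h0 hπ)

end Cfsg.Agent.Lib.Helper6.OutP
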