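import Mathlib
import Cfsg.Agent.Lib.Helper6.OutPerm2
import Cfsg.Agent.Lib.Helper6.M23Out

set_option autoImplicit false

/-! # The automorphisms of `M22` -/

namespace Cfsg.Agent.Lib.Helper6.OutP

open Cfsg Cfsg.Agent.Lib.Helper6.Golay Cfsg.Agent.Lib.Helper6.M24 Cfsg.Agent.Lib.Helper6.Cls
open Cfsg.Agent.Lib.Helper86 (mem_M23_iff mem_M22_iff card_M23 card_M22)
open scoped Pointwise

/-! ### rigidity for permutations preserving the octads through given points -/

/-- `σ` maps the octads containing the points of the mask `c` to octads -/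
def OctC (σ : Equiv.Perm GolayPt) (c : ℕ) : Prop :=
  ∀ B ∈ octads, suppMask c ⊆ B → σ • B ∈ octads

/-- an octad through the points of `c` with at least five fixed points is invariant -/
theorem maps_octad_c {σ : Equiv.Perm GolayPt} {c : ℕ} (hσ : OctC σ c) {fix o : ℕ}
    (hfix : Fixes σ fix) (ho : isCode o = true) (h8 : pc24 o = 8)
    (h5 : 5 ≤ pc24 (Nat.land o fix)) (hc : Nat.land o c = c) : Maps σ o o := by
  obtain ⟨k, hk, e⟩ := isCode_iff.1 ho
  have hoct : suppMask o ∈ octads :=
    mem_octads_iff.2 ⟨k, hk, by rw [← e, ← pc24_eq]; exact h8, by rw [e]⟩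
  have hsubc : suppMask c ⊆ suppMask o := by
    have h1 : suppMask (o &&& c) = suppMask c := by rw [show o &&& c = c from hc]
    rw [← h1, suppMask_and]; exact Finset.inter_subset_left
  have himg : (suppMask o).image σ ∈ octads := hσ _ hoct hsubc
  have hs1 : suppMask (o &&& fix) ⊆ suppMask o := by
    rw [suppMask_and]; exact Finset.inter_subset_left
  have hs2 : suppMask (o &&& fix) ⊆ (suppMask o).image σ := by
    intro p hp
    rw [suppMask_and, Finset.mem_inter] at hp
    rw [Finset.mem_image]
    exact ⟨p, hp.1, hfix p (mem_suppMask.1 hp.2)⟩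
  have hcard : 5 ≤ (suppMask (o &&& fix)).card := by
    rw [card_suppMask, ← pc24_eq]; exact h5
  have heq := octad_unique hoct himg hcard hs1 hs2
  intro p
  rw [Bool.eq_iff_iff, ← mem_suppMask, ← mem_suppMask]
  constructor
  · intro hp
    rw [heq]; exact Finset.mem_image_of_mem _ hp
  · intro hp
    rw [heq, Finset.mem_image] at hp
    obtain ⟨q, hq, hqp⟩ := hp
    rw [← σ.injective hqp]; exact hq

/-- `o` is an octad through the points of `c` with at least five points in `fix` -/
def octOKc (c fix o : ℕ) : Bool :=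
  and (isCode o) (and (Nat.beq (pc24 o) 8) (and (Nat.ble 5 (pc24 (Nat.land o fix)))
    (Nat.beq (Nat.land o c) c)))

/-- a step: the octads `os` meet outside `fix` in the point `u` -/
def stepOKc (c fix : ℕ) (os : List ℕ) (u : ℕ) : Bool :=
  and (os.all (octOKc c fix))
    (and (Nat.beq (Nat.land (andAll os) (Nat.xor fix 16777215)) (Nat.shiftLeft 1 u)) (Nat.blt u 24))

/-- run a certificate: returns the final mask of fixed points (or `0` on failure) -/
def runCertc (c : ℕ) : List (List ℕ × ℕ) → ℕ → ℕ
  | [], fix => fix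
  | (os, u) :: rest, fix =>
    cond (stepOKc c fix os u) (runCertc c rest (Nat.lor fix (Nat.shiftLeft 1 u))) 0

theorem maps_of_octOKc {σ : Equiv.Perm GolayPt} {c : ℕ} (hσ : OctC σ c) {fix o : ℕ}
    (hfix : Fixes σ fix) (h : octOKc c fix o = true) : Maps σ o o := by
  unfold octOKc at h
  simp only [Bool.and_eq_true] at h
  exact maps_octad_c hσ hfix h.1 (Nat.eq_of_beq_eq_true h.2.1) (Nat.le_of_ble_eq_true h.2.2.1)
    (Nat.eq_of_beq_eq_true h.2.2.2)

theorem maps_andAllc {σ : Equiv.Perm GolayPt} {c : ℕ} (hσ : OctC σ c) {fix : ℕ}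
    (hfix : Fixes σ fix) :
    ∀ os : List ℕ, os.all (octOKc c fix) = true → Maps σ (andAll os) (andAll os) := by
  intro os
  induction os with
  | nil => intro _; exact maps_full σ
  | cons o os ih =>
    intro h
    rw [List.all_cons, Bool.and_eq_true] at h
    exact (maps_of_octOKc hσ hfix h.1).and (ih h.2)

theorem fixes_stepc {σ : Equiv.Perm GolayPt} {c : ℕ} (hσ : OctC σ c) {fix : ℕ} {os : List ℕ}
    {u : ℕ} (hfix : Fixes σ fix) (h : stepOKc c fix os u = true) : Fixes σ (fix ||| 2 ^ u) := by
  unfold stepOKc at h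
  simp only [Bool.and_eq_true] at h
  have hu : u < 24 := by
    have := h.2.2
    simpa [Nat.blt] using this
  have h1 : Maps σ (andAll os &&& (fix ^^^ 16777215)) (andAll os &&& (fix ^^^ 16777215)) :=
    (maps_andAllc hσ hfix os h.1).and (hfix.maps.xor (maps_full σ))
  have h2 : andAll os &&& (fix ^^^ 16777215) = 2 ^ u := by
    have := Nat.eq_of_beq_eq_true h.2.1
    rw [← Nat.one_shiftLeft]; exact this
  rw [h2] at h1
  exact (fixes_or hu).2 ⟨hfix, fixed_of_maps_pow hu h1⟩

/-- rigidity: a permutation preserving the octads through the points of `c` and fixing the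
points of `fix` is trivial, given a certificate -/
theorem rigidc {σ : Equiv.Perm GolayPt} {c : ℕ} (hσ : OctC σ c) :
    ∀ (cert : List (List ℕ × ℕ)) (fix : ℕ), Fixes σ fix → runCertc c cert fix = 16777215 →
      σ = 1 := by
  intro cert
  induction cert with
  | nil =>
    intro fix hfix h
    rw [runCertc] at h
    ext p
    rw [h] at hfix
    rw [hfix p (testBit_full p)]; rfl
  | cons step rest ih =>
    intro fix hfix h
    obtain ⟨os, u⟩ := step
    rw [runCertc] at h
    by_cases hs : stepOKc c fix os u = true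
    · rw [hs] at h
      have hfix' := fixes_stepc hσ hfix hs
      apply ih (fix ||| 2 ^ u) hfix'
      rw [← Nat.one_shiftLeft]; exact h
    · have : stepOKc c fix os u = false := by simpa using hs
      rw [this] at h
      simp at h

theorem fixes_of_list {σ : Equiv.Perm GolayPt} {fix : ℕ} (L : List ℕ)
    (hL : ∀ j, j < 24 → fix.testBit j = true → j ∈ L) (h : ∀ j ∈ L, σ (pt j) = pt j) :
    Fixes σ fix := by
  intro p hp
  have := h _ (hL (idx p) (idx_lt p) hp)
  rwa [pt_idx] at this

theorem maps_mem {σ : Equiv.Perm GolayPt} {m : ℕ} (h : Maps σ m m) {j : ℕ} (hj : j < 24)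
    (hb : m.testBit j = true) : σ (pt j) ∈ suppMask m := by
  rw [mem_suppMask, ← h (pt j), idx_pt hj]
  exact hb

/-! ### large groups fixing a set pointwise -/

/-- a group stabilising a set `X'` with more than `|X'|!` elements has a non-identity element
fixing `X'` pointwise -/
theorem exists_fixing_of_large {K : Subgroup (Equiv.Perm GolayPt)} {X' : Finset GolayPt}
    (hX : ∀ g ∈ K, ∀ x ∈ X', g x ∈ X') (hbig : (X'.card).factorial < Nat.card K) :
    ∃ g ∈ K, g ≠ 1 ∧ ∀ x ∈ X', g x = x := by
  have hiff : ∀ k : ↥K, ∀ x, (k : Equiv.Perm GolayPt) x ∈ X' ↔ x ∈ X' := by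
    intro k x
    refine ⟨fun h => ?_, hX k.1 k.2 x⟩
    have h1 := hX (k.1)⁻¹ (Subgroup.inv_mem _ k.2) _ h
    simpa using h1
  have hninj : ¬ Function.Injective
      (fun k : ↥K => ((k : Equiv.Perm GolayPt).subtypePerm (hiff k) :
        Equiv.Perm {x // x ∈ X'})) := by
    intro hinj
    have h1 := Nat.card_le_card_of_injective _ hinj
    rw [Nat.card_eq_fintype_card (α := Equiv.Perm {x // x ∈ X'}), Fintype.card_perm,
      Fintype.card_coe] at h1
    omega
  rw [Function.Injective] at hninj
  push Not at hninj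
  obtain ⟨k1, k2, he, hne⟩ := hninj
  have hagree : ∀ x ∈ X', (k1 : Equiv.Perm GolayPt) x = (k2 : Equiv.Perm GolayPt) x := by
    intro x hx
    have := congrArg (fun e : Equiv.Perm {x // x ∈ X'} => (e ⟨x, hx⟩ : GolayPt)) he
    exact this
  refine ⟨(k1 : Equiv.Perm GolayPt)⁻¹ * (k2 : Equiv.Perm GolayPt),
    Subgroup.mul_mem _ (Subgroup.inv_mem _ k1.2) k2.2, ?_, ?_⟩
  · intro h
    apply hne
    apply Subtype.ext
    have h2 : (k1 : Equiv.Perm GolayPt) * ((k1 : Equiv.Perm GolayPt)⁻¹ * (k2 : Equiv.Perm GolayPt))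
        = (k1 : Equiv.Perm GolayPt) := by rw [h, mul_one]
    rw [mul_inv_cancel_left] at h2
    exact h2.symm
  · intro x hx
    rw [Equiv.Perm.mul_apply, ← hagree x hx]; simp

/-! ### `M22` -/

/-- the points other than `none` and `some 0` -/
def X22 : Finset GolayPt := (Finset.univ.erase none).erase (some 0)

theorem mem_X22 {x : GolayPt} : x ∈ X22 ↔ x ≠ none ∧ x ≠ some 0 := by
  unfold X22
  rw [Finset.mem_erase, Finset.mem_erase]
  exact ⟨fun h => ⟨h.2.1, h.1⟩, fun h => ⟨h.2, h.1, Finset.mem_univ _⟩⟩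

theorem card_X22 : X22.card = 22 := by
  unfold X22
  rw [Finset.card_erase_of_mem (by simp), Finset.card_erase_of_mem (Finset.mem_univ _),
    Finset.card_univ, card_golayPt]

theorem M22_le : Spor.M22 ≤ M24 := fun _ hg => (mem_M22_iff.1 hg).1

theorem M22_inv : ∀ g ∈ Spor.M22, ∀ x ∈ X22, g x ∈ X22 := by
  intro g hg x hx
  obtain ⟨-, h1, h2⟩ := mem_M22_iff.1 hg
  rw [mem_X22] at hx ⊢
  exact ⟨fun e => hx.1 (g.injective (e.trans h1.symm)),
    fun e => hx.2 (g.injective (e.trans h2.symm))⟩

theorem M22_trans : ∀ x ∈ X22, ∀ y ∈ X22, ∃ g ∈ Spor.M22, g x = y := by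
  intro x hx y hy
  rw [mem_X22] at hx hy
  obtain ⟨g, hg, h1, h2, h3⟩ := Cfsg.Agent.Lib.Helper7.M24_trans3 (x1 := none) (x2 := some 0)
    (x3 := x) (y1 := none) (y2 := some 0) (y3 := y) (by decide) (Ne.symm hx.1) (Ne.symm hx.2)
    (by decide) (Ne.symm hy.1) (Ne.symm hy.2)
  exact ⟨g, mem_M22_iff.2 ⟨hg, h1, h2⟩, h3⟩

/-- a subgroup of `M22` of order `20160` fixes a point other than `none` and `some 0` -/
theorem M22_fix_point {H : Subgroup (Equiv.Perm GolayPt)} (hH : H ≤ Spor.M22)
    (hc : Nat.card H = 20160) : ∃ p, p ∈ X22 ∧ ∀ h ∈ H, h p = p := by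
  have i7 : Fact (Nat.Prime 7) := ⟨by norm_num⟩
  have i5 : Fact (Nat.Prime 5) := ⟨by norm_num⟩
  obtain ⟨τ, hτH, hτ7, hτ1⟩ := exists_prime_elt H 7 (by rw [hc]; norm_num)
  obtain ⟨ρ, hρH, hρ5, hρ1⟩ := exists_prime_elt H 5 (by rw [hc]; norm_num)
  have hτM := mem_M22_iff.1 (hH hτH)
  have hρM := mem_M22_iff.1 (hH hρH)
  have hcτ : (Finset.univ.filter fun q => τ q = q).card = 3 :=
    card_fixed_of_prime hτM.1 hτ7 hτ1 3 (by decide)
  have hcρ : (Finset.univ.filter fun q => ρ q = q).card = 4 :=
    card_fixed_of_prime hρM.1 hρ5 hρ1 4 (by decide)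
  have hτe : (((Finset.univ.filter fun q => τ q = q).erase none).erase (some 0)).card = 1 := by
    rw [Finset.card_erase_of_mem, Finset.card_erase_of_mem, hcτ]
    · rw [Finset.mem_filter]; exact ⟨Finset.mem_univ _, hτM.2.1⟩
    · rw [Finset.mem_erase, Finset.mem_filter]
      exact ⟨by decide, Finset.mem_univ _, hτM.2.2⟩
  have hρe : (((Finset.univ.filter fun q => ρ q = q).erase none).erase (some 0)).card = 2 := by
    rw [Finset.card_erase_of_mem, Finset.card_erase_of_mem, hcρ]
    · rw [Finset.mem_filter]; exact ⟨Finset.mem_univ _, hρM.2.1⟩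
    · rw [Finset.mem_erase, Finset.mem_filter]
      exact ⟨by decide, Finset.mem_univ _, hρM.2.2⟩
  obtain ⟨p, hp⟩ := Finset.card_eq_one.1 hτe
  have hp' : p ∈ ((Finset.univ.filter fun q => τ q = q).erase none).erase (some 0) := by
    rw [hp]; exact Finset.mem_singleton_self p
  rw [Finset.mem_erase, Finset.mem_erase, Finset.mem_filter] at hp'
  obtain ⟨hp0, hpn, -, hτp⟩ := hp'
  have hpX : p ∈ X22 := mem_X22.2 ⟨hpn, hp0⟩
  have hOX : orb H p ⊆ X22 := by
    intro q hq
    obtain ⟨k, hk, rfl⟩ := mem_orb.1 hq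
    exact M22_inv k (hH hk) p hpX
  have hle : (orb H p).card ≤ 22 := by
    have := Finset.card_le_card hOX
    rwa [card_X22] at this
  have hdvd : (orb H p).card ∣ 20160 := by rw [← hc]; exact card_orb_dvd H p
  have h7 := card_orb_modEq (p := p) hτH hτ7
  have hf7 : ((orb H p).filter (fun q => τ q = q)) = {p} := by
    ext q
    rw [Finset.mem_filter, Finset.mem_singleton]
    constructor
    · rintro ⟨hq, hfix⟩
      have hqX := mem_X22.1 (hOX hq)
      have : q ∈ ((Finset.univ.filter fun q => τ q = q).erase none).erase (some 0) := by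
        rw [Finset.mem_erase, Finset.mem_erase, Finset.mem_filter]
        exact ⟨hqX.2, hqX.1, Finset.mem_univ _, hfix⟩
      rw [hp] at this
      exact Finset.mem_singleton.1 this
    · rintro rfl
      exact ⟨self_mem_orb, hτp⟩
  rw [hf7, Finset.card_singleton] at h7
  have h5 := card_orb_modEq (p := p) hρH hρ5
  have hf5 : ((orb H p).filter (fun q => ρ q = q)).card ≤ 2 := by
    have hsub : (orb H p).filter (fun q => ρ q = q) ⊆
        ((Finset.univ.filter fun q => ρ q = q).erase none).erase (some 0) := by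
      intro q hq
      rw [Finset.mem_filter] at hq
      have hqX := mem_X22.1 (hOX hq.1)
      rw [Finset.mem_erase, Finset.mem_erase, Finset.mem_filter]
      exact ⟨hqX.2, hqX.1, Finset.mem_univ _, hq.2⟩
    have := Finset.card_le_card hsub
    rwa [hρe] at this
  -- the orbit cannot have `15` points
  have hn15 : (orb H p).card ≠ 15 := by
    intro h15
    have hΔc : (X22 \ orb H p).card = 7 := by
      rw [Finset.card_sdiff_of_subset hOX, card_X22, h15]
    have hΔinv : ∀ g ∈ H, ∀ x ∈ X22 \ orb H p, g x ∈ X22 \ orb H p := by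
      intro g hg x hx
      rw [Finset.mem_sdiff] at hx ⊢
      refine ⟨M22_inv g (hH hg) x hx.1, fun hgx => hx.2 ?_⟩
      have := orb_inv (Subgroup.inv_mem _ hg) hgx
      simpa using this
    obtain ⟨g, hg, hg1, hgfix⟩ := exists_fixing_of_large hΔinv
      (by rw [hΔc, hc]; decide)
    have hgM := mem_M22_iff.1 (hH hg)
    have h8 := card_fixed_le_eight hgM.1 hg1
    have hsub : insert none (insert (some 0) (X22 \ orb H p)) ⊆
        Finset.univ.filter fun q => g q = q := by
      intro q hq
      rw [Finset.mem_filter]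
      refine ⟨Finset.mem_univ _, ?_⟩
      rw [Finset.mem_insert, Finset.mem_insert] at hq
      rcases hq with rfl | rfl | hq
      · exact hgM.2.1
      · exact hgM.2.2
      · exact hgfix q hq
    have hc9 : (insert none (insert (some 0) (X22 \ orb H p))).card = 9 := by
      rw [Finset.card_insert_of_notMem, Finset.card_insert_of_notMem, hΔc]
      · intro h
        exact (mem_X22.1 (Finset.mem_sdiff.1 h).1).2 rfl
      · intro h
        rw [Finset.mem_insert] at h
        rcases h with h | h
        · exact absurd h (by decide)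
        · exact (mem_X22.1 (Finset.mem_sdiff.1 h).1).1 rfl
    have := Finset.card_le_card hsub
    omega
  have hn1 : (orb H p).card = 1 := by
    have e7 : (orb H p).card % 7 = 1 := h7
    have e5 : (orb H p).card % 5 = ((orb H p).filter (fun q => ρ q = q)).card % 5 := h5
    have ed : 20160 % (orb H p).card = 0 := Nat.mod_eq_zero_of_dvd hdvd
    generalize ((orb H p).filter (fun q => ρ q = q)).card = f at e5 hf5
    generalize (orb H p).card = n at e7 e5 ed hle hn15
    interval_cases n <;> omega
  exact ⟨p, hpX, fun h hh => eq_of_card_orb_eq_one hn1 hh⟩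

/-- the group `M22` with its `22` points satisfies the hypotheses of the automorphism lemma -/
theorem pts_M22 : Pts Spor.M22 X22 where
  inv := M22_inv
  trans := M22_trans
  fixOut := by
    intro g hg x hx
    obtain ⟨-, h1, h2⟩ := mem_M22_iff.1 hg
    rw [mem_X22] at hx
    by_cases hxn : x = none
    · rw [hxn]; exact h1
    · have : x = some 0 := by
        by_contra h
        exact hx ⟨hxn, h⟩
      rw [this]; exact h2
  distinct := by
    intro x hx y hy h
    by_contra hne
    rw [mem_X22] at hx hy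
    obtain ⟨z, hz⟩ : ∃ z, z ∉ ({none, some 0, x, y} : Finset GolayPt) := by
      by_contra hc
      push Not at hc
      have h1 : (Finset.univ : Finset GolayPt) ⊆ {none, some 0, x, y} := fun z _ => hc z
      have h2 := Finset.card_le_card h1
      rw [Finset.card_univ, card_golayPt] at h2
      have h3 : ({none, some 0, x, y} : Finset GolayPt).card ≤ 4 := Finset.card_le_four
      omega
    simp only [Finset.mem_insert, Finset.mem_singleton, not_or] at hz
    obtain ⟨hzn, hz0, hzx, hzy⟩ := hz
    obtain ⟨g, hg, h1, h2, h3, h4⟩ := Cfsg.Agent.Lib.Helper7.M24_trans4 (x1 := none)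
      (x2 := some 0) (x3 := x) (x4 := y) (y1 := none) (y2 := some 0) (y3 := x) (y4 := z)
      (by decide) (Ne.symm hx.1) (Ne.symm hy.1) (Ne.symm hx.2) (Ne.symm hy.2) hne
      (by decide) (Ne.symm hx.1) (Ne.symm hzn) (Ne.symm hx.2) (Ne.symm hz0) (Ne.symm hzx)
    have h5 := h g (mem_M22_iff.2 ⟨hg, h1, h2⟩) h3
    rw [h4] at h5
    exact hzy h5
  index := by
    intro H hH
    rw [card_X22] at hH
    have hcH : Nat.card H = 20160 := by
      have := Subgroup.index_mul_card H
      rw [hH, card_M22] at this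
      omega
    obtain ⟨p, hpX, hfix⟩ := M22_fix_point (H := H.map Spor.M22.subtype)
      (by rintro _ ⟨h, -, rfl⟩; exact h.2)
      (by rw [Subgroup.card_map_of_injective (Subgroup.subtype_injective _), hcH])
    refine ⟨p, hpX, ?_⟩
    have hle : H ≤ MulAction.stabilizer ↥Spor.M22 p := by
      intro h hh
      exact hfix h.1 ⟨h, hh, rfl⟩
    apply Subgroup.eq_of_le_of_card_ge hle
    have h1 := index_stab_of M22_inv M22_trans hpX
    have h2 := Subgroup.index_mul_card (MulAction.stabilizer ↥Spor.M22 p)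
    rw [h1, card_M22, card_X22] at h2
    omega

/-! ### the normaliser of `M22` among the permutations fixing `none` and `some 0` -/

/-- the permutations fixing `none` and `some 0` and normalising `M22` -/
def N22 : Subgroup (Equiv.Perm GolayPt) :=
  Subgroup.normalizer (Spor.M22 : Set (Equiv.Perm GolayPt)) ⊓
    MulAction.stabilizer (Equiv.Perm GolayPt) (none : GolayPt) ⊓
    MulAction.stabilizer (Equiv.Perm GolayPt) (some 0 : GolayPt)

theorem mem_N22 {π : Equiv.Perm GolayPt} :
    π ∈ N22 ↔ (∀ x, x ∉ X22 → π x = x) ∧ ∀ g ∈ Spor.M22, π * g * π⁻¹ ∈ Spor.M22 := by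
  constructor
  · rintro ⟨⟨h1, h2⟩, h3⟩
    have h2' : π none = none := h2
    have h3' : π (some 0) = some 0 := h3
    refine ⟨?_, fun g hg => (Subgroup.mem_normalizer_iff.1 h1 g).1 hg⟩
    intro x hx
    rw [mem_X22] at hx
    by_cases hxn : x = none
    · rw [hxn]; exact h2'
    · have : x = some 0 := by
        by_contra h
        exact hx ⟨hxn, h⟩
      rw [this]; exact h3'
  · rintro ⟨h1, h2⟩
    refine ⟨⟨Subgroup.mem_normalizer_fintype (fun g hg => h2 g hg), ?_⟩, ?_⟩
    · exact h1 none (by rw [mem_X22]; simp)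
    · exact h1 (some 0) (by rw [mem_X22]; simp)

theorem N22_none {π : Equiv.Perm GolayPt} (h : π ∈ N22) : π none = none := h.1.2

theorem N22_zero {π : Equiv.Perm GolayPt} (h : π ∈ N22) : π (some 0) = some 0 := h.2

theorem N22_X22 {π : Equiv.Perm GolayPt} (h : π ∈ N22) {x : GolayPt} (hx : x ∈ X22) :
    π x ∈ X22 := by
  rw [mem_X22] at hx ⊢
  exact ⟨fun e => hx.1 (π.injective (e.trans (N22_none h).symm)),
    fun e => hx.2 (π.injective (e.trans (N22_zero h).symm))⟩

theorem M22_le_N22 : Spor.M22 ≤ N22 := by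
  intro g hg
  rw [mem_N22]
  exact ⟨fun x hx => pts_M22.fixOut g hg x hx,
    fun k hk => Subgroup.mul_mem _ (Subgroup.mul_mem _ hg hk) (Subgroup.inv_mem _ hg)⟩

/-- the stabiliser in `M22` of an octad through `none` and `some 0` has order at least `5760` -/
theorem card_M22_stab_ge {B : Finset GolayPt} (hB : B ∈ octads) (hn : (none : GolayPt) ∈ B)
    (h0 : (some 0 : GolayPt) ∈ B) :
    5760 ≤ Nat.card (Spor.M22 ⊓ MulAction.stabilizer (Equiv.Perm GolayPt) B :
      Subgroup (Equiv.Perm GolayPt)) := by
  have h1 := card_le_card_mul (M24 ⊓ MulAction.stabilizer (Equiv.Perm GolayPt) B) none B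
    (fun h hh => by
      have e : h • B = B := hh.2
      rw [← e]; exact Finset.smul_mem_smul_finset hn)
  rw [Cfsg.Agent.Lib.Helper26.card_octadStab B hB, hB.2] at h1
  have h2 := card_le_card_mul (M24 ⊓ MulAction.stabilizer (Equiv.Perm GolayPt) B ⊓
      MulAction.stabilizer (Equiv.Perm GolayPt) (none : GolayPt)) (some 0) (B.erase none)
    (fun h hh => by
      have e : h • B = B := hh.1.2
      have e2 : h none = none := hh.2
      rw [Finset.mem_erase]
      refine ⟨fun e3 => absurd (h.injective (e3.trans e2.symm)) (by decide), ?_⟩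
      rw [← e]; exact Finset.smul_mem_smul_finset h0)
  rw [Finset.card_erase_of_mem hn, hB.2] at h2
  have e : (M24 ⊓ MulAction.stabilizer (Equiv.Perm GolayPt) B ⊓
      MulAction.stabilizer (Equiv.Perm GolayPt) (none : GolayPt) ⊓
      MulAction.stabilizer (Equiv.Perm GolayPt) (some 0 : GolayPt) :
        Subgroup (Equiv.Perm GolayPt)) =
      Spor.M22 ⊓ MulAction.stabilizer (Equiv.Perm GolayPt) B := by
    unfold Spor.M22 Spor.M23
    ext g
    simp only [Subgroup.mem_inf]
    tauto
  rw [e] at h2
  omega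

/-- the mask of the points `none` and `some 0` -/
def c22 : ℕ := 8388609

theorem N22_octC {π : Equiv.Perm GolayPt} (hπ : π ∈ N22) : OctC π c22 := by
  intro B hB hsub
  have hn : (none : GolayPt) ∈ B := hsub (by rw [mem_suppMask]; decide)
  have h0 : (some 0 : GolayPt) ∈ B := hsub (by rw [mem_suppMask]; decide)
  have hFx : ({none, some 0} : Finset GolayPt) ⊆ B := by
    intro x hx
    rw [Finset.mem_insert, Finset.mem_singleton] at hx
    rcases hx with rfl | rfl
    · exact hn
    · exact h0
  apply smul_mem_octads_of_normalizes M22_le (mem_N22.1 hπ).2 hB hFx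
  · intro g hg x hx
    rw [Finset.mem_insert, Finset.mem_singleton] at hx
    rcases hx with rfl | rfl
    · exact (mem_M22_iff.1 hg).2.1
    · exact (mem_M22_iff.1 hg).2.2
  · intro x hx
    rw [Finset.mem_insert, Finset.mem_singleton] at hx
    rcases hx with rfl | rfl
    · exact N22_none hπ
    · exact N22_zero hπ
  · have hc6 : (B \ {none, some 0}).card = 6 := by
      rw [Finset.card_sdiff_of_subset hFx, hB.2]; rfl
    rw [hc6]
    have := card_M22_stab_ge hB hn h0
    have h6 : Nat.factorial 6 = 720 := by decide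
    omega

/-! ### the stabiliser chain of `N22` -/

/-- the octad through `none, some 0, 1, 2, 3` -/
def o5 : ℕ := 8536111

/-- the rigidity certificate: a permutation preserving the octads through `none` and `some 0`
and fixing the points `23, 0, 1, 2, 3, 5, 14, 4` is trivial -/
def cert22 : List (List ℕ × ℕ) := [([8536111], 17), ([8966165, 15335473], 19),
  ([9347075, 11100169], 13), ([9347075, 8966165], 15), ([9347075], 18), ([8966165], 12),
  ([13062145, 11100169], 16), ([13062145], 22), ([11100169], 21), ([10630149], 10),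
  ([9506893, 14254209], 20), ([9506893], 6), ([14254209], 7), ([11731203], 8), ([12325377], 9),
  ([15747077], 11)]

theorem cert22_ok : runCertc c22 cert22 8405055 = 16777215 := by decide +kernel

theorem o5_ok : and (isCode o5) (and (Nat.beq (pc24 o5) 8) (Nat.beq (Nat.land o5 c22) c22)) = true := by
  decide +kernel

/-- an element of `N22` fixing the points `1, 2, 3` preserves the octad `o5` -/
theorem N22_maps_o5 {π : Equiv.Perm GolayPt} (hπ : π ∈ N22) {fix : ℕ} (hfix : Fixes π fix)
    (h5 : 5 ≤ pc24 (Nat.land o5 fix)) : Maps π o5 o5 := by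
  have h := o5_ok
  rw [Bool.and_eq_true, Bool.and_eq_true] at h
  exact maps_octad_c (N22_octC hπ) hfix h.1 (Nat.eq_of_beq_eq_true h.2.1) h5
    (Nat.eq_of_beq_eq_true h.2.2)

theorem N22_fixes {π : Equiv.Perm GolayPt} (hπ : π ∈ N22) {fix : ℕ} (L : List ℕ)
    (hL : ∀ j, j < 24 → fix.testBit j = true → j = 23 ∨ j = 0 ∨ j ∈ L)
    (h : ∀ j ∈ L, π (pt j) = pt j) : Fixes π fix := by
  intro p hp
  rcases hL (idx p) (idx_lt p) hp with h1 | h1 | h1
  · have e : p = none := by rw [← pt_idx p, h1]; rfl
    rw [e]; exact N22_none hπ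
  · have e : p = some 0 := by rw [← pt_idx p, h1]; rfl
    rw [e]; exact N22_zero hπ
  · have := h _ h1
    rwa [pt_idx] at this

theorem card_N22_le : Nat.card N22 ≤ 887040 := by
  have h1 := card_le_card_mul N22 (pt 1) X22 (fun h hh => N22_X22 hh (by rw [mem_X22]; decide))
  have h2 := card_le_card_mul (N22 ⊓ MulAction.stabilizer (Equiv.Perm GolayPt) (pt 1)) (pt 2)
    (X22.erase (pt 1)) (fun h hh => by
      have e1 : h (pt 1) = pt 1 := hh.2
      rw [Finset.mem_erase]
      exact ⟨fun e => absurd (h.injective (e.trans e1.symm)) (by decide),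
        N22_X22 hh.1 (by rw [mem_X22]; decide)⟩)
  have h3 := card_le_card_mul (N22 ⊓ MulAction.stabilizer (Equiv.Perm GolayPt) (pt 1) ⊓
      MulAction.stabilizer (Equiv.Perm GolayPt) (pt 2)) (pt 3)
    ((X22.erase (pt 1)).erase (pt 2)) (fun h hh => by
      have e1 : h (pt 1) = pt 1 := hh.1.2
      have e2 : h (pt 2) = pt 2 := hh.2
      rw [Finset.mem_erase, Finset.mem_erase]
      exact ⟨fun e => absurd (h.injective (e.trans e2.symm)) (by decide),
        fun e => absurd (h.injective (e.trans e1.symm)) (by decide),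
        N22_X22 hh.1.1 (by rw [mem_X22]; decide)⟩)
  have h4 := card_le_card_mul (N22 ⊓ MulAction.stabilizer (Equiv.Perm GolayPt) (pt 1) ⊓
      MulAction.stabilizer (Equiv.Perm GolayPt) (pt 2) ⊓
      MulAction.stabilizer (Equiv.Perm GolayPt) (pt 3)) (pt 5)
    (suppMask (Nat.land o5 (Nat.xor 8388623 16777215))) (fun h hh => by
      have hfix : Fixes h 8388623 := N22_fixes hh.1.1.1 [1, 2, 3] (by decide) (by
        intro j hj
        simp only [List.mem_cons, List.not_mem_nil, or_false] at hj
        rcases hj with rfl | rfl | rfl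
        · exact hh.1.1.2
        · exact hh.1.2
        · exact hh.2)
      have hm := N22_maps_o5 hh.1.1.1 hfix (by decide +kernel)
      exact maps_mem (hm.and (hfix.maps.xor (maps_full h))) (by norm_num) (by decide +kernel))
  have h5 := card_le_card_mul (N22 ⊓ MulAction.stabilizer (Equiv.Perm GolayPt) (pt 1) ⊓
      MulAction.stabilizer (Equiv.Perm GolayPt) (pt 2) ⊓
      MulAction.stabilizer (Equiv.Perm GolayPt) (pt 3) ⊓
      MulAction.stabilizer (Equiv.Perm GolayPt) (pt 5)) (pt 14)
    (suppMask (Nat.land o5 (Nat.xor 8388655 16777215))) (fun h hh => by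
      have hfix : Fixes h 8388655 := N22_fixes hh.1.1.1.1 [1, 2, 3, 5] (by decide) (by
        intro j hj
        simp only [List.mem_cons, List.not_mem_nil, or_false] at hj
        rcases hj with rfl | rfl | rfl | rfl
        · exact hh.1.1.1.2
        · exact hh.1.1.2
        · exact hh.1.2
        · exact hh.2)
      have hm := N22_maps_o5 hh.1.1.1.1 hfix (by decide +kernel)
      exact maps_mem (hm.and (hfix.maps.xor (maps_full h))) (by norm_num) (by decide +kernel))
  have h6 := card_le_card_mul (N22 ⊓ MulAction.stabilizer (Equiv.Perm GolayPt) (pt 1) ⊓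
      MulAction.stabilizer (Equiv.Perm GolayPt) (pt 2) ⊓
      MulAction.stabilizer (Equiv.Perm GolayPt) (pt 3) ⊓
      MulAction.stabilizer (Equiv.Perm GolayPt) (pt 5) ⊓
      MulAction.stabilizer (Equiv.Perm GolayPt) (pt 14)) (pt 4)
    (suppMask (Nat.xor o5 16777215)) (fun h hh => by
      have hfix : Fixes h 8405039 := N22_fixes hh.1.1.1.1.1 [1, 2, 3, 5, 14] (by decide) (by
        intro j hj
        simp only [List.mem_cons, List.not_mem_nil, or_false] at hj
        rcases hj with rfl | rfl | rfl | rfl | rfl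
        · exact hh.1.1.1.1.2
        · exact hh.1.1.1.2
        · exact hh.1.1.2
        · exact hh.1.2
        · exact hh.2)
      have hm := N22_maps_o5 hh.1.1.1.1.1 hfix (by decide +kernel)
      exact maps_mem (hm.xor (maps_full h)) (by norm_num) (by decide +kernel))
  have h7 : Nat.card (N22 ⊓ MulAction.stabilizer (Equiv.Perm GolayPt) (pt 1) ⊓
      MulAction.stabilizer (Equiv.Perm GolayPt) (pt 2) ⊓
      MulAction.stabilizer (Equiv.Perm GolayPt) (pt 3) ⊓
      MulAction.stabilizer (Equiv.Perm GolayPt) (pt 5) ⊓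
      MulAction.stabilizer (Equiv.Perm GolayPt) (pt 14) ⊓
      MulAction.stabilizer (Equiv.Perm GolayPt) (pt 4) : Subgroup (Equiv.Perm GolayPt)) = 1 := by
    rw [Subgroup.card_eq_one, Subgroup.eq_bot_iff_forall]
    intro h hh
    have hfix : Fixes h 8405055 := N22_fixes hh.1.1.1.1.1.1 [1, 2, 3, 5, 14, 4] (by decide) (by
      intro j hj
      simp only [List.mem_cons, List.not_mem_nil, or_false] at hj
      rcases hj with rfl | rfl | rfl | rfl | rfl | rfl
      · exact hh.1.1.1.1.1.2
      · exact hh.1.1.1.1.2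
      · exact hh.1.1.1.2
      · exact hh.1.1.2
      · exact hh.1.2
      · exact hh.2)
    exact rigidc (N22_octC hh.1.1.1.1.1.1) cert22 8405055 hfix cert22_ok
  have c1 : X22.card = 22 := card_X22
  have c2 : (X22.erase (pt 1)).card = 21 := by
    rw [Finset.card_erase_of_mem (by rw [mem_X22]; decide), card_X22]
  have c3 : ((X22.erase (pt 1)).erase (pt 2)).card = 20 := by
    rw [Finset.card_erase_of_mem (by rw [Finset.mem_erase, mem_X22]; decide), c2]
  have c4 : (suppMask (Nat.land o5 (Nat.xor 8388623 16777215))).card = 3 := by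
    rw [card_suppMask, ← pc24_eq]; decide +kernel
  have c5 : (suppMask (Nat.land o5 (Nat.xor 8388655 16777215))).card = 2 := by
    rw [card_suppMask, ← pc24_eq]; decide +kernel
  have c6 : (suppMask (Nat.xor o5 16777215)).card = 16 := by
    rw [card_suppMask, ← pc24_eq]; decide +kernel
  rw [c1] at h1
  rw [c2] at h2
  rw [c3] at h3
  rw [c4] at h4
  rw [c5] at h5
  rw [c6, h7] at h6
  omega

/-! ### an element of `N22` outside `M22` -/

theorem exists_N22_not_M22 : ∃ π ∈ N22, π ∉ Spor.M22 := by
  obtain ⟨s, hs, h1, h2⟩ := Cfsg.Agent.Lib.Helper7.M24_trans2 (x1 := (none : GolayPt))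
    (x2 := some 0) (y1 := some 0) (y2 := none) (by decide) (by decide)
  refine ⟨Equiv.swap (none : GolayPt) (some 0) * s, ?_, ?_⟩
  · rw [mem_N22]
    constructor
    · intro x hx
      rw [mem_X22] at hx
      by_cases hxn : x = none
      · rw [hxn, Equiv.Perm.mul_apply, h1, Equiv.swap_apply_right]
      · have : x = some 0 := by
          by_contra h
          exact hx ⟨hxn, h⟩
        rw [this, Equiv.Perm.mul_apply, h2, Equiv.swap_apply_left]
    · intro g hg
      obtain ⟨hgM, hg1, hg2⟩ := mem_M22_iff.1 hg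
      have hk : s * g * s⁻¹ ∈ Spor.M22 := by
        rw [mem_M22_iff]
        have e1 : s⁻¹ none = some 0 := by rw [Equiv.Perm.inv_eq_iff_eq]; exact h2.symm
        have e2 : s⁻¹ (some 0) = none := by rw [Equiv.Perm.inv_eq_iff_eq]; exact h1.symm
        refine ⟨Subgroup.mul_mem _ (Subgroup.mul_mem _ hs hgM) (Subgroup.inv_mem _ hs), ?_, ?_⟩
        · rw [Equiv.Perm.mul_apply, Equiv.Perm.mul_apply, e1, hg2, h2]
        · rw [Equiv.Perm.mul_apply, Equiv.Perm.mul_apply, e2, hg1, h1]
      obtain ⟨-, hk1, hk2⟩ := mem_M22_iff.1 hk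
      have hcomm : (s * g * s⁻¹) * Equiv.swap (none : GolayPt) (some 0) =
          Equiv.swap (none : GolayPt) (some 0) * (s * g * s⁻¹) := by
        have := Equiv.mul_swap_eq_swap_mul (s * g * s⁻¹) (none : GolayPt) (some 0)
        rwa [hk1, hk2] at this
      have e : Equiv.swap (none : GolayPt) (some 0) * s * g *
          (Equiv.swap (none : GolayPt) (some 0) * s)⁻¹ = s * g * s⁻¹ := by
        calc Equiv.swap (none : GolayPt) (some 0) * s * g *
            (Equiv.swap (none : GolayPt) (some 0) * s)⁻¹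
            = Equiv.swap (none : GolayPt) (some 0) * (s * g * s⁻¹) *
              (Equiv.swap (none : GolayPt) (some 0))⁻¹ := by group
          _ = (s * g * s⁻¹) * Equiv.swap (none : GolayPt) (some 0) *
              (Equiv.swap (none : GolayPt) (some 0))⁻¹ := by rw [hcomm]
          _ = s * g * s⁻¹ := by group
      rw [e]; exact hk
  · intro hmem
    have hsw : Equiv.swap (none : GolayPt) (some 0) ∈ M24 := by
      have := Subgroup.mul_mem _ (M22_le hmem) (Subgroup.inv_mem _ hs)
      rwa [mul_inv_cancel_right] at this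
    have hne : Equiv.swap (none : GolayPt) (some 0) ≠ 1 := by
      intro h
      have := Equiv.Perm.congr_fun h none
      rw [Equiv.swap_apply_left] at this
      exact absurd this (by decide)
    have h8 := card_fixed_le_eight hsw hne
    have hsub : X22 ⊆ Finset.univ.filter fun q => Equiv.swap (none : GolayPt) (some 0) q = q := by
      intro q hq
      rw [mem_X22] at hq
      rw [Finset.mem_filter]
      exact ⟨Finset.mem_univ _, Equiv.swap_apply_of_ne_of_ne hq.1 hq.2⟩
    have := Finset.card_le_card hsub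
    rw [card_X22] at this
    omega

/-- the outer automorphism group of `M22` has order `2` -/
theorem card_out_M22 : Nat.card (Cfsg.Out ↥Spor.M22) = 2 := by
  have h1 := pts_M22.card_out_mul N22 (fun π => mem_N22)
  rw [card_M22] at h1
  have h2 := card_N22_le
  obtain ⟨π, hπN, hπM⟩ := exists_N22_not_M22
  have h3 : Nat.card Spor.M22 ∣ Nat.card N22 := Subgroup.card_dvd_of_le M22_le_N22
  have h4 : Nat.card N22 ≠ Nat.card Spor.M22 := by
    intro e
    have := Subgroup.eq_of_le_of_card_ge M22_le_N22 (le_of_eq e)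
    exact hπM (by rw [this]; exact hπN)
  rw [card_M22] at h3 h4
  obtain ⟨k, hk⟩ := h3
  have hpos : 0 < Nat.card N22 := Nat.card_pos
  generalize Nat.card (Cfsg.Out ↥Spor.M22) = a at h1
  generalize Nat.card ↥N22 = b at h1 h2 h4 hk hpos
  have hk2 : k = 2 := by
    rw [hk] at h2 h4 hpos
    omega
  rw [hk2] at hk
  omega

end Cfsg.Agent.Lib.Helper6.OutP
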