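import Mathlib

set_option autoImplicit false

/-! # Matrices commuting with the transvection `1 + E₀₁` in `SL(n + 2, 2)` -/

namespace Cfsg.Agent.Lib.Helper6.TG

open Matrix

variable {n : ℕ}

abbrev MatN (n : ℕ) := Matrix (Fin (n + 2)) (Fin (n + 2)) (ZMod 2)
abbrev SLN (n : ℕ) := Matrix.SpecialLinearGroup (Fin (n + 2)) (ZMod 2)
abbrev SLn (n : ℕ) := Matrix.SpecialLinearGroup (Fin n) (ZMod 2)
abbrev Vn (n : ℕ) := Fin n → ZMod 2

/-- the index one -/
def i1 : Fin (n + 2) := Fin.succ 0

/-- the embedding of the last `n` coordinates -/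
def en (k : Fin n) : Fin (n + 2) := k.succ.succ

theorem i1_eq_one : (i1 : Fin (n + 2)) = 1 := Fin.succ_zero_eq_one

theorem i1_ne_zero : (i1 : Fin (n + 2)) ≠ 0 := Fin.succ_ne_zero _

theorem en_ne_zero (k : Fin n) : en k ≠ 0 := Fin.succ_ne_zero _

theorem en_ne_one (k : Fin n) : en k ≠ i1 := fun h =>
  Fin.succ_ne_zero k (Fin.succ_injective _ h)

theorem en_injective : Function.Injective (en (n := n)) := fun _ _ h =>
  Fin.succ_injective _ (Fin.succ_injective _ h)

theorem idx_cases {P : Fin (n + 2) → Prop} (h0 : P 0) (h1 : P i1) (h2 : ∀ k, P (en k)) :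
    ∀ i, P i :=
  Fin.cases h0 (Fin.cases h1 h2)

theorem sum_idx (f : Fin (n + 2) → ZMod 2) : ∑ i, f i = f 0 + f i1 + ∑ k, f (en k) := by
  rw [Fin.sum_univ_succ, Fin.sum_univ_succ]
  exact (add_assoc _ _ _).symm

theorem z2_cases (x : ZMod 2) : x = 0 ∨ x = 1 := by
  revert x; decide

theorem z2_add_self (x : ZMod 2) : x + x = 0 := by
  revert x; decide

/-! ### transvections -/

theorem tv_mul_apply (j : Fin (n + 2)) (g : MatN n) (i k : Fin (n + 2)) :
    (Matrix.transvection 0 j (1 : ZMod 2) * g) i k = g i k + if i = 0 then g j k else 0 := by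
  unfold Matrix.transvection
  rw [Matrix.add_mul, Matrix.one_mul, Matrix.add_apply]
  congr 1
  by_cases hi : i = 0
  · subst hi
    simp [Matrix.mul_apply, Matrix.single_apply]
  · simp [Matrix.mul_apply, hi, Ne.symm hi]

theorem mul_tv_apply (j : Fin (n + 2)) (g : MatN n) (i k : Fin (n + 2)) :
    (g * Matrix.transvection 0 j (1 : ZMod 2)) i k = g i k + if k = j then g i 0 else 0 := by
  unfold Matrix.transvection
  rw [Matrix.mul_add, Matrix.mul_one, Matrix.add_apply]
  congr 1
  by_cases hk : k = j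
  · subst hk
    simp [Matrix.mul_apply, Matrix.single_apply]
  · simp [Matrix.mul_apply, hk, Ne.symm hk]

/-- a matrix of determinant one commuting with `1 + E₀ⱼ` fixes the first basis vector -/
theorem col0_of_comm {j : Fin (n + 2)} {g : MatN n}
    (hc : Matrix.transvection 0 j (1 : ZMod 2) * g = g * Matrix.transvection 0 j 1)
    (hd : g.det = 1) :
    (∀ i, i ≠ 0 → g i 0 = 0) ∧ (∀ k, k ≠ j → g j k = 0) ∧ g 0 0 = 1 ∧ g j j = 1 := by
  have key : ∀ i k : Fin (n + 2), (if i = 0 then g j k else 0) = (if k = j then g i 0 else 0) := by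
    intro i k
    have h := congrFun (congrFun hc i) k
    rw [tv_mul_apply, mul_tv_apply] at h
    exact add_left_cancel h
  have col0 : ∀ i, i ≠ 0 → g i 0 = 0 := by
    intro i hi
    have := key i j
    rw [if_neg hi, if_pos rfl] at this
    exact this.symm
  have rowj : ∀ k, k ≠ j → g j k = 0 := by
    intro k hk
    have := key 0 k
    rw [if_pos rfl, if_neg hk] at this
    exact this
  have g00 : g 0 0 = 1 := by
    by_contra hne
    have h0 : g 0 0 = 0 := (z2_cases _).resolve_right hne
    have hz : g.det = 0 := by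
      apply Matrix.det_eq_zero_of_column_eq_zero 0
      intro i
      by_cases hi : i = 0
      · rw [hi]; exact h0
      · exact col0 i hi
    rw [hz] at hd
    exact absurd hd (by decide)
  have gjj : g j j = 1 := by
    have := key 0 j
    rw [if_pos rfl, if_pos rfl] at this
    rw [this, g00]
  exact ⟨col0, rowj, g00, gjj⟩

/-- the transvection `1 + E₀₁` -/
abbrev TT (n : ℕ) : MatN n := Matrix.transvection 0 i1 1

/-- the shape of a matrix commuting with the transvection -/
structure Shape (g : MatN n) : Prop where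
  col0 : ∀ i, i ≠ 0 → g i 0 = 0
  row1 : ∀ j, j ≠ i1 → g i1 j = 0
  g00 : g 0 0 = 1
  g11 : g i1 i1 = 1

theorem shape_of_comm {g : MatN n} (hc : TT n * g = g * TT n) (hd : g.det = 1) : Shape g := by
  obtain ⟨h1, h2, h3, h4⟩ := col0_of_comm hc hd
  exact ⟨h1, h2, h3, h4⟩

theorem comm_of_shape {g : MatN n} (hg : Shape g) : TT n * g = g * TT n := by
  ext i k
  rw [tv_mul_apply, mul_tv_apply]
  congr 1
  by_cases hi : i = 0
  · subst hi
    by_cases hk : k = i1
    · subst hk
      rw [if_pos rfl, if_pos rfl, hg.g00, hg.g11]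
    · rw [if_pos rfl, if_neg hk, hg.row1 k hk]
  · rw [if_neg hi]
    by_cases hk : k = i1
    · rw [if_pos hk, hg.col0 i hi]
    · rw [if_neg hk]

theorem shape_one : Shape (1 : MatN n) :=
  ⟨fun _ hi => Matrix.one_apply_ne hi, fun _ hj => Matrix.one_apply_ne (Ne.symm hj),
    Matrix.one_apply_eq _, Matrix.one_apply_eq _⟩

/-- the lower right block -/
def blk (g : MatN n) : Matrix (Fin n) (Fin n) (ZMod 2) := g.submatrix en en

/-- the corner coordinate -/
def cc (g : MatN n) : ZMod 2 := g 0 i1

/-- the row coordinates -/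
def rr (g : MatN n) : Vn n := fun k => g 0 (en k)

/-- the column coordinates -/
def uu (g : MatN n) : Vn n := fun k => g (en k) i1

theorem blk_mul {g h : MatN n} (hg : Shape g) (hh : Shape h) :
    blk (g * h) = blk g * blk h := by
  ext i j
  simp only [blk, Matrix.submatrix_apply, Matrix.mul_apply]
  rw [sum_idx, hg.col0 (en i) (en_ne_zero i), hh.row1 (en j) (en_ne_one j)]
  ring

theorem blk_one : blk (1 : MatN n) = 1 := Matrix.submatrix_one en en_injective

theorem cc_mul {g h : MatN n} (hg : Shape g) (hh : Shape h) :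
    cc (g * h) = cc g + cc h + rr g ⬝ᵥ uu h := by
  simp only [cc, rr, uu, Matrix.mul_apply, dotProduct]
  rw [sum_idx, hg.g00, hh.g11]
  ring

theorem rr_mul {g h : MatN n} (hg : Shape g) (hh : Shape h) :
    rr (g * h) = rr h + rr g ᵥ* blk h := by
  funext j
  simp only [rr, blk, Matrix.mul_apply, Matrix.vecMul, dotProduct, Pi.add_apply,
    Matrix.submatrix_apply]
  rw [sum_idx, hg.g00, hh.row1 (en j) (en_ne_one j)]
  ring

theorem uu_mul {g h : MatN n} (hg : Shape g) (hh : Shape h) :
    uu (g * h) = uu g + blk g *ᵥ uu h := by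
  funext i
  simp only [uu, blk, Matrix.mul_apply, Matrix.mulVec, dotProduct, Pi.add_apply,
    Matrix.submatrix_apply]
  rw [sum_idx, hg.col0 (en i) (en_ne_zero i), hh.g11]
  ring

theorem cc_one : cc (1 : MatN n) = 0 := Matrix.one_apply_ne i1_ne_zero.symm

theorem rr_one : rr (1 : MatN n) = 0 := by
  funext k
  exact Matrix.one_apply_ne (en_ne_zero k).symm

theorem uu_one : uu (1 : MatN n) = 0 := by
  funext k
  exact Matrix.one_apply_ne (en_ne_one k)

theorem TT_apply (i j : Fin (n + 2)) :
    TT n i j = (1 : MatN n) i j + if i = 0 then (1 : MatN n) i1 j else 0 := by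
  have h := tv_mul_apply i1 (1 : MatN n) i j
  rwa [Matrix.mul_one] at h

theorem cc_TT : cc (TT n) = 1 := by
  unfold cc
  rw [TT_apply, if_pos rfl, Matrix.one_apply_ne i1_ne_zero.symm, Matrix.one_apply_eq, zero_add]

theorem rr_TT : rr (TT n) = 0 := by
  funext k
  show TT n 0 (en k) = 0
  rw [TT_apply, if_pos rfl, Matrix.one_apply_ne (en_ne_zero k).symm,
    Matrix.one_apply_ne (en_ne_one k).symm, add_zero]

theorem uu_TT : uu (TT n) = 0 := by
  funext k
  show TT n (en k) i1 = 0
  rw [TT_apply, if_neg (en_ne_zero k), Matrix.one_apply_ne (en_ne_one k), add_zero]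

theorem blk_TT : blk (TT n) = 1 := by
  rw [← blk_one]
  ext i j
  show TT n (en i) (en j) = (1 : MatN n) (en i) (en j)
  rw [TT_apply, if_neg (en_ne_zero i), add_zero]

theorem shape_ext {g h : MatN n} (hg : Shape g) (hh : Shape h)
    (h0 : cc g = cc h) (h1 : rr g = rr h) (h2 : uu g = uu h) (h3 : blk g = blk h) : g = h := by
  ext i j
  revert j
  refine idx_cases (P := fun i => ∀ j, g i j = h i j) ?_ ?_ ?_ i
  · refine idx_cases ?_ ?_ ?_
    · rw [hg.g00, hh.g00]
    · exact h0
    · intro k; exact congrFun h1 k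
  · intro j
    by_cases hj : j = i1
    · subst hj; rw [hg.g11, hh.g11]
    · rw [hg.row1 j hj, hh.row1 j hj]
  · intro k
    refine idx_cases ?_ ?_ ?_
    · rw [hg.col0 _ (en_ne_zero k), hh.col0 _ (en_ne_zero k)]
    · exact congrFun h2 k
    · intro l; exact congrFun (congrFun h3 k) l

/-! ### explicit matrices -/

/-- a row `(x, y, w)` -/
def row3 (x y : ZMod 2) (w : Vn n) : Fin (n + 2) → ZMod 2 :=
  Fin.cons x (Fin.cons y w)

theorem row3_zero (x y : ZMod 2) (w : Vn n) : row3 x y w 0 = x := rfl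

theorem row3_one (x y : ZMod 2) (w : Vn n) : row3 x y w i1 = y := rfl

theorem row3_en (x y : ZMod 2) (w : Vn n) (k : Fin n) : row3 x y w (en k) = w k := rfl

/-- the matrix with corner `c`, row `r`, column `u` and block `B` -/
def mk (c : ZMod 2) (r u : Vn n) (B : Matrix (Fin n) (Fin n) (ZMod 2)) : MatN n :=
  Matrix.of (Fin.cons (α := fun _ => Fin (n + 2) → ZMod 2) (row3 1 c r)
    (Fin.cons (α := fun _ => Fin (n + 2) → ZMod 2) (row3 0 1 0) (fun k => row3 0 (u k) (B k))))

variable (c : ZMod 2) (r u : Vn n) (B : Matrix (Fin n) (Fin n) (ZMod 2))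

theorem mk_row0 : mk c r u B 0 = row3 1 c r := rfl

theorem mk_row1 : mk c r u B i1 = row3 0 1 0 := rfl

theorem mk_rowe (k : Fin n) : mk c r u B (en k) = row3 0 (u k) (B k) := rfl

theorem shape_mk : Shape (mk c r u B) := by
  refine ⟨?_, ?_, ?_, ?_⟩
  · refine idx_cases ?_ ?_ ?_
    · intro h; exact absurd rfl h
    · intro _; rw [mk_row1, row3_zero]
    · intro k _; rw [mk_rowe, row3_zero]
  · refine idx_cases ?_ ?_ ?_
    · intro _; rw [mk_row1, row3_zero]
    · intro h; exact absurd rfl h
    · intro k _; rw [mk_row1, row3_en]; rfl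
  · rw [mk_row0, row3_zero]
  · rw [mk_row1, row3_one]

theorem cc_mk : cc (mk c r u B) = c := rfl

theorem rr_mk : rr (mk c r u B) = r := rfl

theorem uu_mk : uu (mk c r u B) = u := rfl

theorem blk_mk : blk (mk c r u B) = B := rfl

theorem det_mk : (mk c r u B).det = B.det := by
  rw [Matrix.det_succ_column_zero, Fin.sum_univ_succ, Finset.sum_eq_zero, add_zero]
  · rw [Matrix.det_succ_row_zero, Fin.sum_univ_succ, Finset.sum_eq_zero, add_zero]
    · simp only [Fin.val_zero, pow_zero, one_mul, Fin.succAbove_zero]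
      have h1 : mk c r u B 0 0 = 1 := by rw [mk_row0, row3_zero]
      have h2 : (mk c r u B).submatrix Fin.succ Fin.succ 0 0 = 1 := by
        show mk c r u B i1 i1 = 1
        rw [mk_row1, row3_one]
      rw [h1, h2, one_mul, one_mul]
      rfl
    · intro j _
      have h2 : (mk c r u B).submatrix (Fin.succAbove 0) Fin.succ 0 j.succ = 0 := by
        rw [Fin.succAbove_zero]
        show mk c r u B i1 (en j) = 0
        rw [mk_row1, row3_en]; rfl
      rw [h2, mul_zero, zero_mul]
  · intro i _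
    have h1 : mk c r u B i.succ 0 = 0 := (shape_mk c r u B).col0 _ (Fin.succ_ne_zero i)
    rw [h1, mul_zero, zero_mul]

end Cfsg.Agent.Lib.Helper6.TG
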