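import Mathlib
import Cfsg.Prelude.Def_Solvable
import Cfsg.Agent.Lib.Helper6.TransvGen

set_option autoImplicit false

/-! # `O₂(SL(n, 2)) = 1`, and the group of transvections with a fixed centre -/

namespace Cfsg.Agent.Lib.Helper6.TG

open Matrix

variable {n : ℕ}

/-- the natural action of a subgroup of `SL(n, 2)` on vectors -/
@[instance_reducible]
def actP (P : Subgroup (SLn n)) : MulAction ↥P (Vn n) where
  smul x v := (x.1.1) *ᵥ v
  one_smul v := Matrix.one_mulVec v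
  mul_smul x y v := by
    show (x.1.1 * y.1.1) *ᵥ v = x.1.1 *ᵥ (y.1.1 *ᵥ v)
    rw [Matrix.mulVec_mulVec]

theorem z2_add_cancel (a b : ZMod 2) : a + b + a = b := by
  revert a b; decide

/-- a normal `2`-subgroup of `SL(n, 2)`, `n ≥ 2`, is trivial -/
theorem normal_two_subgroup_SL (hn : 2 ≤ n) (P : Subgroup (SLn n)) [hPn : P.Normal]
    (hP : IsPGroup 2 P) : P = ⊥ := by
  have : Fact (Nat.Prime 2) := ⟨Nat.prime_two⟩
  let _ := actP P
  let W : Set (Vn n) := {v | ∀ x ∈ P, (x : Matrix (Fin n) (Fin n) (ZMod 2)) *ᵥ v = v}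
  have hW_add : ∀ v w, v ∈ W → w ∈ W → v + w ∈ W := by
    intro v w hv hw x hx
    rw [Matrix.mulVec_add, hv x hx, hw x hx]
  have hW_g : ∀ (g : SLn n) v, v ∈ W → (g : Matrix (Fin n) (Fin n) (ZMod 2)) *ᵥ v ∈ W := by
    intro g v hv x hx
    have h1 : g⁻¹ * x * g ∈ P := by
      have := hPn.conj_mem x hx g⁻¹
      rwa [inv_inv] at this
    have h2 := hv _ h1
    have h3' : x * g = g * (g⁻¹ * x * g) := by
      rw [mul_assoc g⁻¹ x g, mul_inv_cancel_left]
    have h3 : (x : Matrix (Fin n) (Fin n) (ZMod 2)) * (g : Matrix (Fin n) (Fin n) (ZMod 2)) =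
        (g : Matrix (Fin n) (Fin n) (ZMod 2)) *
          ((g⁻¹ * x * g : SLn n) : Matrix (Fin n) (Fin n) (ZMod 2)) := by
      rw [← Matrix.SpecialLinearGroup.coe_mul, ← Matrix.SpecialLinearGroup.coe_mul, ← h3']
    rw [Matrix.mulVec_mulVec, h3, ← Matrix.mulVec_mulVec, h2]
  have h0 : (0 : Vn n) ∈ MulAction.fixedPoints ↥P (Vn n) := by
    intro x
    show x.1.1 *ᵥ (0 : Vn n) = 0
    exact Matrix.mulVec_zero _
  have hdvd : 2 ∣ Nat.card (Vn n) := by
    have : Nat.card (Vn n) = 2 ^ n := by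
      simp [Vn, Nat.card_eq_fintype_card]
    rw [this]
    exact dvd_pow_self 2 (by omega)
  obtain ⟨v, hv, hv0⟩ := hP.exists_fixed_point_of_prime_dvd_card_of_fixed_point (Vn n) hdvd h0
  have hvW : v ∈ W := fun x hx => hv ⟨x, hx⟩
  obtain ⟨i, hi⟩ : ∃ i, v i = 1 := by
    by_contra hcon
    push Not at hcon
    apply hv0
    funext i
    exact ((z2_cases (v i)).resolve_right (hcon i)).symm
  have hsingle : ∀ j, j ≠ i → Pi.single j (1 : ZMod 2) ∈ W := by
    intro j hj
    let t : SLn n := ⟨Matrix.transvection j i 1, Matrix.det_transvection_of_ne j i hj 1⟩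
    have h1 := hW_g t v hvW
    have h2 : (t : Matrix (Fin n) (Fin n) (ZMod 2)) *ᵥ v = v + Pi.single j 1 := by
      show (Matrix.transvection j i (1 : ZMod 2)) *ᵥ v = _
      unfold Matrix.transvection
      rw [Matrix.add_mulVec, Matrix.one_mulVec, Matrix.single_mulVec, one_mul, hi]
      rfl
    have h3 := hW_add _ _ h1 hvW
    rw [h2] at h3
    have h4 : v + Pi.single j 1 + v = Pi.single j (1 : ZMod 2) := by
      funext k
      simp only [Pi.add_apply]
      exact z2_add_cancel _ _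
    rwa [h4] at h3
  obtain ⟨j, hj⟩ : ∃ j : Fin n, j ≠ i := by
    by_cases h : i.val = 0
    · exact ⟨⟨1, by omega⟩, fun e => by have := congrArg Fin.val e; simp at this; omega⟩
    · exact ⟨⟨0, by omega⟩, fun e => by have := congrArg Fin.val e; simp at this; omega⟩
  have hi' : Pi.single i (1 : ZMod 2) ∈ W := by
    let t : SLn n := ⟨Matrix.transvection i j 1, Matrix.det_transvection_of_ne i j hj.symm 1⟩
    have h1 := hW_g t _ (hsingle j hj)
    have h2 : (t : Matrix (Fin n) (Fin n) (ZMod 2)) *ᵥ Pi.single j 1 =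
        (Pi.single j 1 : Vn n) + Pi.single i 1 := by
      show (Matrix.transvection i j (1 : ZMod 2)) *ᵥ _ = _
      unfold Matrix.transvection
      rw [Matrix.add_mulVec, Matrix.one_mulVec, Matrix.single_mulVec, one_mul, Pi.single_eq_same]
      rfl
    have h3 := hW_add _ _ h1 (hsingle j hj)
    rw [h2] at h3
    have h4 : (Pi.single j 1 : Vn n) + Pi.single i 1 + Pi.single j 1 = Pi.single i (1 : ZMod 2) := by
      funext k
      simp only [Pi.add_apply]
      exact z2_add_cancel _ _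
    rwa [h4] at h3
  have hall : ∀ k, Pi.single k (1 : ZMod 2) ∈ W := fun k => by
    by_cases hk : k = i
    · subst hk; exact hi'
    · exact hsingle k hk
  rw [eq_bot_iff]
  intro x hx
  rw [Subgroup.mem_bot]
  apply Subtype.ext
  ext a b
  have h1 := hall b x hx
  rw [Matrix.mulVec_single_one] at h1
  have h2 := congrFun h1 a
  rw [Matrix.SpecialLinearGroup.coe_one, Matrix.one_apply, ← Pi.single_apply]
  exact h2

/-! ### the transvections with centre `e₀` -/

/-- the first basis vector -/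
def e0 : Fin (n + 2) → ZMod 2 := Pi.single 0 1

/-- the matrix `1 + e₀ ρᵀ` -/
def rowMat (ρ : Fin (n + 2) → ZMod 2) : MatN n := 1 + Matrix.vecMulVec e0 ρ

theorem rowMat_zero : rowMat (0 : Fin (n + 2) → ZMod 2) = 1 := by
  unfold rowMat
  rw [Matrix.vecMulVec_zero, add_zero]

theorem rowMat_mul (ρ ρ' : Fin (n + 2) → ZMod 2) (h : ρ 0 = 0) :
    rowMat ρ * rowMat ρ' = rowMat (ρ + ρ') := by
  unfold rowMat
  have h1 : ρ ⬝ᵥ e0 = 0 := by
    unfold e0; rw [dotProduct_single_one]; exact h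
  rw [Matrix.add_mul, Matrix.mul_add, Matrix.mul_add, Matrix.vecMulVec_mul_vecMulVec, h1,
    zero_smul, Matrix.vecMulVec_zero, add_zero, Matrix.vecMulVec_add]
  simp only [Matrix.one_mul, Matrix.mul_one]
  rw [add_assoc, add_comm (Matrix.vecMulVec e0 ρ')]

theorem rowMat_sq (ρ : Fin (n + 2) → ZMod 2) (h : ρ 0 = 0) : rowMat ρ * rowMat ρ = 1 := by
  rw [rowMat_mul ρ ρ h]
  have : ρ + ρ = 0 := by
    funext k; exact z2_add_self _
  rw [this, rowMat_zero]

theorem det_rowMat (ρ : Fin (n + 2) → ZMod 2) (h : ρ 0 = 0) : (rowMat ρ).det = 1 := by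
  have h1 := congrArg Matrix.det (rowMat_sq ρ h)
  rw [Matrix.det_mul, Matrix.det_one] at h1
  rcases z2_cases (rowMat ρ).det with h2 | h2
  · rw [h2, mul_zero] at h1
    exact absurd h1 (by decide)
  · exact h2

theorem rowMat_apply_zero_succ (ρ : Fin (n + 2) → ZMod 2) (j : Fin (n + 1)) :
    rowMat ρ 0 j.succ = ρ j.succ := by
  unfold rowMat e0
  rw [Matrix.add_apply, Matrix.vecMulVec_apply, Pi.single_eq_same, one_mul,
    Matrix.one_apply_ne (Fin.succ_ne_zero j).symm, zero_add]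

/-- the group of the matrices `1 + e₀ ρᵀ` -/
def EG (n : ℕ) : Subgroup (SLN n) where
  carrier := {g | ∃ ρ : Fin (n + 2) → ZMod 2, ρ 0 = 0 ∧ (g : MatN n) = rowMat ρ}
  one_mem' := ⟨0, rfl, by rw [rowMat_zero]; rfl⟩
  mul_mem' := by
    rintro a b ⟨ρ, h0, ha⟩ ⟨ρ', h0', hb⟩
    refine ⟨ρ + ρ', by rw [Pi.add_apply, h0, h0', add_zero], ?_⟩
    rw [Matrix.SpecialLinearGroup.coe_mul, ha, hb, rowMat_mul _ _ h0]
  inv_mem' := by
    rintro a ⟨ρ, h0, ha⟩
    have h1 : a * a = 1 := by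
      apply Subtype.ext
      rw [Matrix.SpecialLinearGroup.coe_mul, ha, rowMat_sq ρ h0]
      rfl
    have h2 : a⁻¹ = a := inv_eq_of_mul_eq_one_right h1
    show a⁻¹ ∈ {g : SLN n | ∃ ρ : Fin (n + 2) → ZMod 2, ρ 0 = 0 ∧ (g : MatN n) = rowMat ρ}
    rw [h2]
    exact ⟨ρ, h0, ha⟩

theorem mem_EG {g : SLN n} :
    g ∈ EG n ↔ ∃ ρ : Fin (n + 2) → ZMod 2, ρ 0 = 0 ∧ (g : MatN n) = rowMat ρ := Iff.rfl

theorem EG_sq {g : SLN n} (hg : g ∈ EG n) : g * g = 1 := by
  obtain ⟨ρ, h0, ha⟩ := hg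
  apply Subtype.ext
  rw [Matrix.SpecialLinearGroup.coe_mul, ha, rowMat_sq ρ h0]
  rfl

theorem EG_comm {g h : SLN n} (hg : g ∈ EG n) (hh : h ∈ EG n) : g * h = h * g := by
  obtain ⟨ρ, h0, ha⟩ := hg
  obtain ⟨ρ', h0', hb⟩ := hh
  apply Subtype.ext
  rw [Matrix.SpecialLinearGroup.coe_mul, Matrix.SpecialLinearGroup.coe_mul, ha, hb,
    rowMat_mul _ _ h0, rowMat_mul _ _ h0', add_comm ρ ρ']

theorem EG_isPGroup (H : Subgroup (SLN n)) (hH : H ≤ EG n) : IsPGroup 2 ↥H := by
  intro g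
  refine ⟨1, ?_⟩
  apply Subtype.ext
  rw [pow_one, pow_two]
  exact EG_sq (hH g.2)

theorem card_EG : Nat.card ↥(EG n) = 2 ^ (n + 1) := by
  let f : ↥(EG n) → (Fin (n + 1) → ZMod 2) := fun g j => (g.1 : MatN n) 0 j.succ
  have hinj : Function.Injective f := by
    intro a b hab
    obtain ⟨ρ, h0, ha⟩ := a.2
    obtain ⟨ρ', h0', hb⟩ := b.2
    apply Subtype.ext
    apply Subtype.ext
    rw [ha, hb]
    congr 1
    funext k
    refine Fin.cases ?_ (fun j => ?_) k
    · rw [h0, h0']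
    · have h1 := congrFun hab j
      simp only [f] at h1
      rw [ha, hb, rowMat_apply_zero_succ, rowMat_apply_zero_succ] at h1
      exact h1
  have hsurj : Function.Surjective f := by
    intro w
    let ρ : Fin (n + 2) → ZMod 2 := Fin.cons 0 w
    have h0 : ρ 0 = 0 := rfl
    refine ⟨⟨⟨rowMat ρ, det_rowMat ρ h0⟩, ρ, h0, rfl⟩, ?_⟩
    funext j
    show rowMat ρ 0 j.succ = w j
    rw [rowMat_apply_zero_succ]
    rfl
  rw [Nat.card_congr (Equiv.ofBijective f ⟨hinj, hsurj⟩)]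
  simp [Nat.card_eq_fintype_card]

/-- conjugation by a matrix fixing `e₀` preserves the group -/
theorem EG_conj {h g : SLN n} (hh : (h : MatN n) *ᵥ e0 = e0) (hg : g ∈ EG n) :
    h * g * h⁻¹ ∈ EG n := by
  obtain ⟨ρ, h0, ha⟩ := hg
  have hinv : ((h⁻¹ : SLN n) : MatN n) *ᵥ e0 = e0 := by
    conv_lhs => rw [← hh]
    rw [Matrix.mulVec_mulVec, ← Matrix.SpecialLinearGroup.coe_mul, inv_mul_cancel,
      Matrix.SpecialLinearGroup.coe_one, Matrix.one_mulVec]
  refine ⟨ρ ᵥ* ((h⁻¹ : SLN n) : MatN n), ?_, ?_⟩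
  · have h1 : (ρ ᵥ* ((h⁻¹ : SLN n) : MatN n)) ⬝ᵥ e0 = 0 := by
      rw [← Matrix.dotProduct_mulVec, hinv]
      unfold e0; rw [dotProduct_single_one]; exact h0
    unfold e0 at h1
    rwa [dotProduct_single_one] at h1
  · rw [Matrix.SpecialLinearGroup.coe_mul, Matrix.SpecialLinearGroup.coe_mul, ha]
    unfold rowMat
    rw [Matrix.mul_add, Matrix.add_mul, Matrix.mul_one, ← Matrix.SpecialLinearGroup.coe_mul,
      mul_inv_cancel, Matrix.SpecialLinearGroup.coe_one, Matrix.mul_vecMulVec, hh,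
      Matrix.vecMulVec_mul]

/-- a transvection `1 + E₀ⱼ` lies in the group -/
theorem tv_mem_EG {j : Fin (n + 2)} (hj : j ≠ 0) {t : SLN n}
    (ht : (t : MatN n) = Matrix.transvection 0 j 1) : t ∈ EG n := by
  refine ⟨Pi.single j 1, Pi.single_eq_of_ne hj.symm 1, ?_⟩
  rw [ht]
  unfold rowMat e0 Matrix.transvection
  rw [Matrix.single_eq_single_vecMulVec_single]

/-- the group lies in the `2`-core of the centraliser of each of its transvections -/
theorem EG_le_pCore {j : Fin (n + 2)} (hj : j ≠ 0) {t : SLN n}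
    (ht : (t : MatN n) = Matrix.transvection 0 j 1) :
    EG n ≤ (Cfsg.pCore 2 ↥(Subgroup.centralizer ({t} : Set (SLN n)))).map
      (Subgroup.centralizer ({t} : Set (SLN n))).subtype := by
  have htE : t ∈ EG n := tv_mem_EG hj ht
  have hle : EG n ≤ Subgroup.centralizer ({t} : Set (SLN n)) := by
    intro g hg
    rw [Subgroup.mem_centralizer_iff]
    intro x hx
    rw [Set.mem_singleton_iff] at hx
    subst hx
    exact EG_comm htE hg
  have hnorm : ((EG n).subgroupOf (Subgroup.centralizer ({t} : Set (SLN n)))).Normal := by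
    constructor
    intro g hg h
    rw [Subgroup.mem_subgroupOf] at hg ⊢
    have hc := Subgroup.mem_centralizer_iff.1 h.2 t rfl
    have hc' : Matrix.transvection 0 j (1 : ZMod 2) * (h.1 : MatN n) =
        (h.1 : MatN n) * Matrix.transvection 0 j 1 := by
      rw [← ht, ← Matrix.SpecialLinearGroup.coe_mul, ← Matrix.SpecialLinearGroup.coe_mul, hc]
    obtain ⟨c0, -, c00, -⟩ := col0_of_comm hc' h.1.2
    have hh : (h.1 : MatN n) *ᵥ e0 = e0 := by
      unfold e0
      rw [Matrix.mulVec_single_one]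
      funext i
      by_cases hi : i = 0
      · subst hi
        rw [Pi.single_eq_same]; exact c00
      · rw [Pi.single_eq_of_ne hi]; exact c0 i hi
    exact EG_conj hh hg
  have hp : IsPGroup 2 ↥((EG n).subgroupOf (Subgroup.centralizer ({t} : Set (SLN n)))) := by
    intro g
    refine ⟨1, ?_⟩
    apply Subtype.ext
    apply Subtype.ext
    rw [pow_one, pow_two]
    exact EG_sq (Subgroup.mem_subgroupOf.1 g.2)
  have hcore : (EG n).subgroupOf (Subgroup.centralizer ({t} : Set (SLN n))) ≤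
      Cfsg.pCore 2 ↥(Subgroup.centralizer ({t} : Set (SLN n))) :=
    le_sSup ⟨hnorm, hp⟩
  intro g hg
  exact ⟨⟨g, hle hg⟩, hcore (Subgroup.mem_subgroupOf.2 hg), rfl⟩

end Cfsg.Agent.Lib.Helper6.TG
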