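import Mathlib
import Cfsg.Prelude.Def_MonsterType
import Cfsg.Agent.Lib.Helper6.TransvGenE
import Cfsg.Agent.Lib.Helper2.ESLExtra
import Cfsg.Agent.Lib.Helper90.Basic
import Cfsg.Agent.Lib.Helper23.Transport

set_option autoImplicit false

/-! # Structure of the centraliser of a transvection in `SL(n + 2, 2)`:
`2^{1+2n} : SL(n, 2)` -/

namespace Cfsg.Agent.Lib.Helper6.TG

open Matrix

variable {n : ℕ}

theorem finite_SLN (n : ℕ) : Finite (SLN n) :=
  Finite.of_injective (fun g : SLN n => (g : MatN n)) Subtype.val_injective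

/-- the centraliser of `s` -/
abbrev Dg (s : SLN n) : Subgroup (SLN n) := Subgroup.centralizer ({s} : Set (SLN n))

variable {s : SLN n}

/-- the matrix of an element of the centraliser -/
def mt (g : ↥(Dg s)) : MatN n := ((g : SLN n) : MatN n)

theorem mt_mul (g h : ↥(Dg s)) : mt (g * h) = mt g * mt h := rfl

theorem mt_one : mt (1 : ↥(Dg s)) = 1 := rfl

theorem mt_injective : Function.Injective (mt (s := s)) :=
  fun _ _ h => Subtype.ext (Subtype.ext h)

theorem sh (hs : (s : MatN n) = TT n) (g : ↥(Dg s)) : Shape (mt g) := by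
  have h := Subgroup.mem_centralizer_iff.1 g.2 s rfl
  have h' := congrArg (fun x : SLN n => (x : MatN n)) h
  simp only [Matrix.SpecialLinearGroup.coe_mul, hs] at h'
  exact shape_of_comm h' g.1.2

/-- the transvection as an element of its centraliser -/
def sc (s : SLN n) : ↥(Dg s) :=
  ⟨s, Subgroup.mem_centralizer_iff.2 (fun h hh => by rw [Set.mem_singleton_iff.1 hh])⟩

theorem mt_sc (hs : (s : MatN n) = TT n) : mt (sc s) = TT n := hs

theorem sc_comm (g : ↥(Dg s)) : g * sc s = sc s * g := by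
  apply Subtype.ext
  exact (Subgroup.mem_centralizer_iff.1 g.2 s rfl).symm

theorem blk_det (hs : (s : MatN n) = TT n) (g : ↥(Dg s)) : (blk (mt g)).det = 1 := by
  have h1 : blk (mt g) * blk (mt g⁻¹) = 1 := by
    rw [← blk_mul (sh hs g) (sh hs g⁻¹), ← mt_mul, mul_inv_cancel]
    exact blk_one
  have h2 := congrArg Matrix.det h1
  rw [Matrix.det_mul, Matrix.det_one] at h2
  rcases z2_cases (blk (mt g)).det with h3 | h3
  · rw [h3, zero_mul] at h2
    exact absurd h2 (by decide)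
  · exact h3

/-- the action on the quotient space, as a homomorphism to `SL(n, 2)` -/
def blkSL (hs : (s : MatN n) = TT n) : ↥(Dg s) →* SLn n where
  toFun g := ⟨blk (mt g), blk_det hs g⟩
  map_one' := Subtype.ext blk_one
  map_mul' a b := Subtype.ext (blk_mul (sh hs a) (sh hs b))

/-- the kernel of the action on the quotient space -/
def QD (hs : (s : MatN n) = TT n) : Subgroup ↥(Dg s) := (blkSL hs).ker

theorem mem_QD (hs : (s : MatN n) = TT n) {g : ↥(Dg s)} : g ∈ QD hs ↔ blk (mt g) = 1 := by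
  unfold QD
  rw [MonoidHom.mem_ker]
  constructor
  · intro h; exact congrArg Subtype.val h
  · intro h; exact Subtype.ext h

theorem sc_mem_QD (hs : (s : MatN n) = TT n) : sc s ∈ QD hs := by
  rw [mem_QD, mt_sc hs]; exact blk_TT

theorem coord_ext (hs : (s : MatN n) = TT n) {g h : ↥(Dg s)} (h0 : cc (mt g) = cc (mt h))
    (h1 : rr (mt g) = rr (mt h)) (h2 : uu (mt g) = uu (mt h))
    (hb : blk (mt g) = blk (mt h)) : g = h :=
  mt_injective (shape_ext (sh hs g) (sh hs h) h0 h1 h2 hb)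

theorem ext_QD (hs : (s : MatN n) = TT n) {g h : ↥(Dg s)} (hg : g ∈ QD hs) (hh : h ∈ QD hs)
    (h0 : cc (mt g) = cc (mt h)) (h1 : rr (mt g) = rr (mt h)) (h2 : uu (mt g) = uu (mt h)) :
    g = h :=
  coord_ext hs h0 h1 h2 (by rw [(mem_QD hs).1 hg, (mem_QD hs).1 hh])

theorem cc_mul' (hs : (s : MatN n) = TT n) (g h : ↥(Dg s)) :
    cc (mt (g * h)) = cc (mt g) + cc (mt h) + rr (mt g) ⬝ᵥ uu (mt h) :=
  cc_mul (sh hs g) (sh hs h)

theorem rr_mul_Q (hs : (s : MatN n) = TT n) (g q : ↥(Dg s)) (hq : q ∈ QD hs) :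
    rr (mt (g * q)) = rr (mt q) + rr (mt g) := by
  rw [mt_mul, rr_mul (sh hs g) (sh hs q), (mem_QD hs).1 hq, Matrix.vecMul_one]

theorem uu_Q_mul (hs : (s : MatN n) = TT n) (q g : ↥(Dg s)) (hq : q ∈ QD hs) :
    uu (mt (q * g)) = uu (mt q) + uu (mt g) := by
  rw [mt_mul, uu_mul (sh hs q) (sh hs g), (mem_QD hs).1 hq, Matrix.one_mulVec]

/-- the element of the centraliser with given coordinates -/
def mkD (hs : (s : MatN n) = TT n) (c : ZMod 2) (r u : Vn n) (B : SLn n) : ↥(Dg s) :=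
  ⟨⟨mk c r u (B : Matrix (Fin n) (Fin n) (ZMod 2)), by rw [det_mk]; exact B.det_coe⟩, by
    refine Subgroup.mem_centralizer_iff.2 ?_
    intro h hh
    rw [Set.mem_singleton_iff] at hh
    subst hh
    apply Subtype.ext
    show (h : MatN n) * mk c r u (B : Matrix (Fin n) (Fin n) (ZMod 2)) =
      mk c r u (B : Matrix (Fin n) (Fin n) (ZMod 2)) * (h : MatN n)
    rw [hs]
    exact comm_of_shape (shape_mk c r u (B : Matrix (Fin n) (Fin n) (ZMod 2)))⟩

theorem mt_mkD (hs : (s : MatN n) = TT n) (c : ZMod 2) (r u : Vn n) (B : SLn n) :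
    mt (mkD hs c r u B) = mk c r u (B : Matrix (Fin n) (Fin n) (ZMod 2)) := rfl

theorem mkD_mem_QD (hs : (s : MatN n) = TT n) (c : ZMod 2) (r u : Vn n) :
    mkD hs c r u 1 ∈ QD hs := by
  rw [mem_QD, mt_mkD, blk_mk]; rfl

theorem exists_Q (hs : (s : MatN n) = TT n) (c : ZMod 2) (r u : Vn n) :
    ∃ q : ↥(Dg s), q ∈ QD hs ∧ cc (mt q) = c ∧ rr (mt q) = r ∧ uu (mt q) = u :=
  ⟨mkD hs c r u 1, mkD_mem_QD hs c r u, rfl, rfl, rfl⟩

/-- an element of the kernel with trivial row and column coordinates -/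
theorem small_of_coords (hs : (s : MatN n) = TT n) {g : ↥(Dg s)} (hg : g ∈ QD hs)
    (hr : rr (mt g) = 0) (hu : uu (mt g) = 0) : g = 1 ∨ g = sc s := by
  rcases z2_cases (cc (mt g)) with h | h
  · left
    apply ext_QD hs hg (Subgroup.one_mem _)
    · rw [h, mt_one, cc_one]
    · rw [hr, mt_one, rr_one]
    · rw [hu, mt_one, uu_one]
  · right
    apply ext_QD hs hg (sc_mem_QD hs)
    · rw [h, mt_sc hs, cc_TT]
    · rw [hr, mt_sc hs, rr_TT]
    · rw [hu, mt_sc hs, uu_TT]

/-- the centraliser of the kernel -/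
theorem cent_QD (hs : (s : MatN n) = TT n) (g : ↥(Dg s))
    (hg : ∀ q ∈ QD hs, g * q = q * g) : g = 1 ∨ g = sc s := by
  have hb : blk (mt g) = 1 := by
    ext i j
    obtain ⟨q, hq, -, hr, -⟩ := exists_Q hs 0 (Pi.single i 1) 0
    have h1 : rr (mt (g * q)) = rr (mt (q * g)) := by rw [hg q hq]
    rw [rr_mul_Q hs g q hq, mt_mul, rr_mul (sh hs q) (sh hs g), hr, Matrix.single_one_vecMul]
      at h1
    have h2 := congrFun h1 j
    simp only [Pi.add_apply] at h2
    have h3 : blk (mt g) i j = (Pi.single i (1 : ZMod 2) : Vn n) j := by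
      have := add_left_cancel ((add_comm _ _).trans h2)
      exact this.symm
    rw [h3, Matrix.one_apply, Pi.single_apply]
    by_cases hij : i = j
    · rw [if_pos hij, if_pos hij.symm]
    · rw [if_neg hij, if_neg (fun e => hij e.symm)]
  have hgQ : g ∈ QD hs := (mem_QD hs).2 hb
  have hr : rr (mt g) = 0 := by
    funext k
    obtain ⟨q, hq, hc, hr', hu⟩ := exists_Q hs 0 0 (Pi.single k 1)
    have h1 : cc (mt (g * q)) = cc (mt (q * g)) := by rw [hg q hq]
    rw [cc_mul' hs, cc_mul' hs, hc, hr', hu, dotProduct_single, zero_dotProduct] at h1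
    have h2 : rr (mt g) k * 1 = 0 := by
      have := h1
      rw [add_zero, zero_add, add_zero] at this
      exact add_left_cancel (this.trans (add_zero _).symm)
    rwa [mul_one] at h2
  have hu : uu (mt g) = 0 := by
    funext k
    obtain ⟨q, hq, hc, hr', hu⟩ := exists_Q hs 0 (Pi.single k 1) 0
    have h1 : cc (mt (g * q)) = cc (mt (q * g)) := by rw [hg q hq]
    rw [cc_mul' hs, cc_mul' hs, hc, hr', hu, single_dotProduct, dotProduct_zero] at h1
    have h2 : 1 * uu (mt g) k = 0 := by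
      have := h1
      rw [add_zero, zero_add, add_zero] at this
      exact (add_left_cancel (this.symm.trans (add_zero _).symm))
    rwa [one_mul] at h2
  exact small_of_coords hs hgQ hr hu

/-! ### the kernel is extraspecial -/

/-- the central element of the kernel -/
def zq (hs : (s : MatN n) = TT n) : ↥(QD hs) := ⟨sc s, sc_mem_QD hs⟩

theorem sc_ne_one (hs : (s : MatN n) = TT n) : sc s ≠ 1 := by
  intro h1
  have h2 : cc (mt (sc s)) = cc (mt (1 : ↥(Dg s))) := by rw [h1]
  rw [mt_sc hs, cc_TT, mt_one, cc_one] at h2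
  exact absurd h2 (by decide)

theorem zq_ne_one (hs : (s : MatN n) = TT n) : zq hs ≠ 1 := by
  intro h
  exact sc_ne_one hs (congrArg Subtype.val h)

/-- a row coordinate as a homomorphism -/
def rhoK (hs : (s : MatN n) = TT n) (k : Fin n) : ↥(QD hs) →* Multiplicative (ZMod 2) where
  toFun x := Multiplicative.ofAdd (rr (mt (x : ↥(Dg s))) k)
  map_one' := by
    show Multiplicative.ofAdd (rr (mt (1 : ↥(Dg s))) k) = 1
    rw [mt_one, rr_one]; rfl
  map_mul' x y := by
    show Multiplicative.ofAdd (rr (mt ((x : ↥(Dg s)) * (y : ↥(Dg s)))) k) =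
      Multiplicative.ofAdd (rr (mt (x : ↥(Dg s))) k) * Multiplicative.ofAdd (rr (mt (y : ↥(Dg s))) k)
    rw [rr_mul_Q hs x.1 y.1 y.2, ← ofAdd_add, Pi.add_apply, add_comm]

/-- a column coordinate as a homomorphism -/
def upsK (hs : (s : MatN n) = TT n) (k : Fin n) : ↥(QD hs) →* Multiplicative (ZMod 2) where
  toFun x := Multiplicative.ofAdd (uu (mt (x : ↥(Dg s))) k)
  map_one' := by
    show Multiplicative.ofAdd (uu (mt (1 : ↥(Dg s))) k) = 1
    rw [mt_one, uu_one]; rfl
  map_mul' x y := by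
    show Multiplicative.ofAdd (uu (mt ((x : ↥(Dg s)) * (y : ↥(Dg s)))) k) =
      Multiplicative.ofAdd (uu (mt (x : ↥(Dg s))) k) * Multiplicative.ofAdd (uu (mt (y : ↥(Dg s))) k)
    rw [uu_Q_mul hs x.1 y.1 x.2, ← ofAdd_add, Pi.add_apply]

theorem small_of_homs (hs : (s : MatN n) = TT n) (x : ↥(QD hs)) (h1 : ∀ k, rhoK hs k x = 1)
    (h2 : ∀ k, upsK hs k x = 1) : x = 1 ∨ x = zq hs := by
  have hr : rr (mt (x : ↥(Dg s))) = 0 := by
    funext k
    exact ofAdd_eq_one.1 (h1 k)
  have hu : uu (mt (x : ↥(Dg s))) = 0 := by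
    funext k
    exact ofAdd_eq_one.1 (h2 k)
  rcases small_of_coords hs x.2 hr hu with h | h
  · left; exact Subtype.ext h
  · right; exact Subtype.ext h

theorem center_QD (hs : (s : MatN n) = TT n) (x : ↥(QD hs)) :
    x ∈ Subgroup.center ↥(QD hs) ↔ x = 1 ∨ x = zq hs := by
  constructor
  · intro hx
    rw [Subgroup.mem_center_iff] at hx
    have h1 : ∀ q ∈ QD hs, (x : ↥(Dg s)) * q = q * (x : ↥(Dg s)) := by
      intro q hq
      exact (congrArg Subtype.val (hx ⟨q, hq⟩)).symm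
    rcases cent_QD hs x.1 h1 with h | h
    · left; exact Subtype.ext h
    · right; exact Subtype.ext h
  · rintro (rfl | rfl)
    · exact Subgroup.one_mem _
    · rw [Subgroup.mem_center_iff]
      intro y
      apply Subtype.ext
      exact sc_comm y.1

/-- the coordinates of an element -/
def crd (g : ↥(Dg s)) : ZMod 2 × Vn n × Vn n := (cc (mt g), rr (mt g), uu (mt g))

theorem card_QD (hs : (s : MatN n) = TT n) : Nat.card ↥(QD hs) = 2 ^ (2 * n + 1) := by
  have hbij : Function.Bijective (fun q : ↥(QD hs) => crd (q : ↥(Dg s))) := by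
    constructor
    · intro a b h
      apply Subtype.ext
      exact ext_QD hs a.2 b.2 (congrArg Prod.fst h) (congrArg (fun x => x.2.1) h)
        (congrArg (fun x => x.2.2) h)
    · rintro ⟨c, r, u⟩
      exact ⟨⟨mkD hs c r u 1, mkD_mem_QD hs c r u⟩, rfl⟩
  rw [Nat.card_congr (Equiv.ofBijective _ hbij)]
  have h : Nat.card (ZMod 2 × Vn n × Vn n) = 2 * (2 ^ n * 2 ^ n) := by
    simp [Vn, Nat.card_eq_fintype_card]
  rw [h]
  ring

theorem finite_QD (hs : (s : MatN n) = TT n) : Finite ↥(QD hs) := by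
  have := finite_SLN n
  infer_instance

/-- the kernel is extraspecial -/
theorem extraspecial_QD (hn : 1 ≤ n) (hs : (s : MatN n) = TT n) :
    Cfsg.IsExtraspecial 2 ↥(QD hs) := by
  have : Fact (Nat.Prime 2) := ⟨Nat.prime_two⟩
  have := finite_QD hs
  apply Cfsg.Agent.Lib.Helper2.ESL.isExtraspecial_of
  · rw [Nat.card_eq_two_iff]
    refine ⟨1, ⟨zq hs, (center_QD hs _).2 (Or.inr rfl)⟩, ?_, ?_⟩
    · intro h
      exact zq_ne_one hs (congrArg Subtype.val h).symm
    · ext w
      simp only [Set.mem_insert_iff, Set.mem_singleton_iff, Set.mem_univ, iff_true]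
      rcases (center_QD hs w.1).1 w.2 with h | h
      · left; exact Subtype.ext h
      · right; exact Subtype.ext h
  · intro a b
    rw [center_QD hs]
    apply small_of_homs hs
    · intro k
      rw [map_commutatorElement]
      exact commutatorElement_eq_one_iff_commute.2 (Commute.all _ _)
    · intro k
      rw [map_commutatorElement]
      exact commutatorElement_eq_one_iff_commute.2 (Commute.all _ _)
  · let k : Fin n := ⟨0, by omega⟩
    refine ⟨⟨mkD hs 0 (Pi.single k 1) 0 1, mkD_mem_QD hs _ _ _⟩,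
      ⟨mkD hs 0 0 (Pi.single k 1) 1, mkD_mem_QD hs _ _ _⟩, ?_⟩
    intro h
    have h1 := commutatorElement_eq_one_iff_commute.1 h
    have h2 : mkD hs 0 (Pi.single k 1) 0 1 * mkD hs 0 0 (Pi.single k 1) 1 =
        mkD hs 0 0 (Pi.single k 1) 1 * mkD hs 0 (Pi.single k 1) 0 1 :=
      congrArg Subtype.val h1.eq
    have h3 := congrArg (fun g => cc (mt g)) h2
    simp only [cc_mul' hs, mt_mkD, cc_mk, rr_mk, uu_mk] at h3
    rw [dotProduct_single, Pi.single_eq_same, zero_dotProduct] at h3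
    rw [zero_add, zero_add, zero_add, one_mul] at h3
    exact one_ne_zero h3

/-! ### the complement -/

theorem mkD_one (hs : (s : MatN n) = TT n) : mkD hs 0 0 0 1 = 1 := by
  apply coord_ext hs
  · rw [mt_mkD, cc_mk, mt_one, cc_one]
  · rw [mt_mkD, rr_mk, mt_one, rr_one]
  · rw [mt_mkD, uu_mk, mt_one, uu_one]
  · rw [mt_mkD, blk_mk, mt_one, blk_one]; rfl

/-- the complement, as a homomorphism -/
def kap (hs : (s : MatN n) = TT n) : SLn n →* ↥(Dg s) where
  toFun B := mkD hs 0 0 0 B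
  map_one' := mkD_one hs
  map_mul' a b := by
    apply coord_ext hs
    · rw [cc_mul' hs, mt_mkD, mt_mkD, mt_mkD, cc_mk, cc_mk, cc_mk, rr_mk, zero_dotProduct]
      simp
    · rw [mt_mul, rr_mul (sh hs _) (sh hs _), mt_mkD, mt_mkD, mt_mkD, rr_mk, rr_mk, rr_mk,
        Matrix.zero_vecMul, add_zero]
    · rw [mt_mul, uu_mul (sh hs _) (sh hs _), mt_mkD, mt_mkD, mt_mkD, uu_mk, uu_mk, uu_mk,
        Matrix.mulVec_zero, add_zero]
    · rw [mt_mul, blk_mul (sh hs _) (sh hs _), mt_mkD, mt_mkD, mt_mkD, blk_mk, blk_mk, blk_mk]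
      rfl

theorem blkSL_kap (hs : (s : MatN n) = TT n) (B : SLn n) : blkSL hs (kap hs B) = B := rfl

theorem kap_injective (hs : (s : MatN n) = TT n) : Function.Injective (kap hs) :=
  Function.LeftInverse.injective (blkSL_kap hs)

theorem blkSL_surjective (hs : (s : MatN n) = TT n) : Function.Surjective (blkSL hs) :=
  fun B => ⟨kap hs B, blkSL_kap hs B⟩

theorem QD_inf_range (hs : (s : MatN n) = TT n) : QD hs ⊓ (kap hs).range = ⊥ := by
  rw [eq_bot_iff]
  rintro g ⟨hg, ⟨B, rfl⟩⟩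
  have h1 : blkSL hs (kap hs B) = 1 := hg
  rw [blkSL_kap] at h1
  rw [Subgroup.mem_bot, h1, map_one]

theorem QD_sup_range (hs : (s : MatN n) = TT n) : QD hs ⊔ (kap hs).range = ⊤ := by
  rw [eq_top_iff]
  intro g _
  have h1 : g * (kap hs (blkSL hs g))⁻¹ ∈ QD hs := by
    show blkSL hs (g * (kap hs (blkSL hs g))⁻¹) = 1
    rw [map_mul, map_inv, blkSL_kap, mul_inv_cancel]
  have h2 : g = g * (kap hs (blkSL hs g))⁻¹ * kap hs (blkSL hs g) := by
    rw [inv_mul_cancel_right]
  rw [h2]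
  exact Subgroup.mul_mem_sup h1 ⟨_, rfl⟩

/-- the kernel is the `2`-core -/
theorem pCore_eq_QD (hn : 2 ≤ n) (hs : (s : MatN n) = TT n) :
    Cfsg.pCore 2 ↥(Dg s) = QD hs := by
  have : Fact (Nat.Prime 2) := ⟨Nat.prime_two⟩
  apply le_antisymm
  · have hP : IsPGroup 2 ↥(Cfsg.pCore 2 ↥(Dg s)) := Cfsg.Agent.Lib.Helper90.pCore_isPGroup 2
    have hN : (Cfsg.pCore 2 ↥(Dg s)).Normal := Subgroup.sSup_normal _ (fun _ hN => hN.1)
    have hN' : ((Cfsg.pCore 2 ↥(Dg s)).map (blkSL hs)).Normal :=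
      hN.map _ (blkSL_surjective hs)
    have h2 : IsPGroup 2 ↥((Cfsg.pCore 2 ↥(Dg s)).map (blkSL hs)) := hP.map _
    have h3 := normal_two_subgroup_SL hn _ h2
    exact (Subgroup.map_eq_bot_iff _).1 h3
  · refine le_sSup ⟨?_, IsPGroup.of_card (card_QD hs)⟩
    unfold QD
    infer_instance

/-! ### the abstract data -/

/-- the structure of an involution centraliser `C` with `O₂(C) = Q_C` extraspecial,
self-centralising modulo `⟨z⟩`, and complemented by a copy of `L` -/
structure CenData (C : Type*) [Group C] (zC : C) (QC : Subgroup C) (m : ℕ) (L : Type*)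
    [Group L] : Prop where
  core : Cfsg.pCore 2 C = QC
  extra : Cfsg.IsExtraspecial 2 ↥QC
  card : Nat.card ↥QC = m
  zmem : zC ∈ QC
  zne : zC ≠ 1
  cent : ∀ g : C, (∀ q ∈ QC, g * q = q * g) → g = 1 ∨ g = zC
  compl : ∃ KC : Subgroup C, QC ⊓ KC = ⊥ ∧ QC ⊔ KC = ⊤ ∧ Nonempty (↥KC ≃* L)

theorem cenData_Dg (hn : 2 ≤ n) (hs : (s : MatN n) = TT n) :
    CenData ↥(Dg s) (sc s) (QD hs) (2 ^ (2 * n + 1)) (SLn n) where
  core := pCore_eq_QD hn hs
  extra := extraspecial_QD (by omega) hs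
  card := card_QD hs
  zmem := sc_mem_QD hs
  zne := sc_ne_one hs
  cent := cent_QD hs
  compl := ⟨(kap hs).range, QD_inf_range hs, QD_sup_range hs,
    ⟨(MonoidHom.ofInjective (kap_injective hs)).symm⟩⟩

end Cfsg.Agent.Lib.Helper6.TG
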