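import Mathlib
import Cfsg.Prelude.Def_MonsterType
import Cfsg.Agent.Lib.Helper6.TransvGenC

set_option autoImplicit false

/-! # Transport of the centraliser data, and the consequences in the ambient group -/

namespace Cfsg.Agent.Lib.Helper6.TG

open scoped commutatorElement

theorem isExtraspecial_congr {P P' : Type*} [Group P] [Group P'] [Finite P'] {p : ℕ}
    [Fact p.Prime] (e : P ≃* P') (h : Cfsg.IsExtraspecial p P) : Cfsg.IsExtraspecial p P' := by
  obtain ⟨⟨-, -, hcomm⟩, hcard⟩ := h
  have hcen : ∀ c : P, c ∈ Subgroup.center P → e c ∈ Subgroup.center P' := by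
    intro c hc
    rw [Subgroup.mem_center_iff] at hc ⊢
    intro g
    obtain ⟨g', rfl⟩ := e.surjective g
    rw [← map_mul, ← map_mul, hc g']
  apply Cfsg.Agent.Lib.Helper2.ESL.isExtraspecial_of
  · rw [← hcard]
    exact Nat.card_congr (Subgroup.centerCongr e).symm.toEquiv
  · intro a b
    have h1 : ⁅e.symm a, e.symm b⁆ ∈ Subgroup.center P := by
      rw [← hcomm, commutator_def]
      exact Subgroup.commutator_mem_commutator (Subgroup.mem_top _) (Subgroup.mem_top _)
    have h2 := hcen _ h1
    rwa [map_commutatorElement, e.apply_symm_apply, e.apply_symm_apply] at h2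
  · by_contra hcon
    push Not at hcon
    have h1 : Subgroup.center P = ⊤ := by
      rw [eq_top_iff]
      intro x _
      rw [Subgroup.mem_center_iff]
      intro y
      have h2 := hcon (e y) (e x)
      rw [← map_commutatorElement, map_eq_one_iff e e.injective] at h2
      exact commutatorElement_eq_one_iff_mul_comm.1 h2
    have h3 : commutator P = ⊥ := (commutator_eq_bot_iff_center_eq_top P).2 h1
    rw [← hcomm, h3, Subgroup.card_bot] at hcard
    exact (Fact.out : p.Prime).one_lt.ne hcard

theorem CenData.transport {C C' : Type*} [Group C] [Group C'] [Finite C'] {zC : C}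
    {QC : Subgroup C} {m : ℕ} {L : Type*} [Group L] (d : CenData C zC QC m L) (Φ : C' ≃* C) :
    CenData C' (Φ.symm zC) (QC.map Φ.symm.toMonoidHom) m L := by
  have : Fact (Nat.Prime 2) := ⟨Nat.prime_two⟩
  have hinj : Function.Injective Φ.symm.toMonoidHom := Φ.symm.injective
  refine ⟨?_, ?_, ?_, ⟨zC, d.zmem, rfl⟩, ?_, ?_, ?_⟩
  · rw [← d.core]
    exact (Cfsg.Agent.Lib.Helper23.pCore_map 2 Φ.symm).symm
  · exact isExtraspecial_congr (QC.equivMapOfInjective Φ.symm.toMonoidHom hinj) d.extra
  · rw [← d.card]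
    exact Subgroup.card_map_of_injective hinj
  · intro h
    apply d.zne
    have := congrArg Φ h
    rwa [Φ.apply_symm_apply, map_one] at this
  · intro g hg
    have h1 : ∀ q ∈ QC, Φ g * q = q * Φ g := by
      intro q hq
      have h2 := hg (Φ.symm q) ⟨q, hq, rfl⟩
      have h3 := congrArg Φ h2
      rwa [map_mul, map_mul, Φ.apply_symm_apply] at h3
    rcases d.cent (Φ g) h1 with h | h
    · left
      have := congrArg Φ.symm h
      rwa [Φ.symm_apply_apply, map_one] at this
    · right
      have := congrArg Φ.symm h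
      rwa [Φ.symm_apply_apply] at this
  · obtain ⟨KC, h1, h2, ⟨f⟩⟩ := d.compl
    refine ⟨KC.map Φ.symm.toMonoidHom, ?_, ?_,
      ⟨(KC.equivMapOfInjective Φ.symm.toMonoidHom hinj).symm.trans f⟩⟩
    · rw [← Subgroup.map_inf _ _ _ hinj, h1, Subgroup.map_bot]
    · rw [← Subgroup.map_sup, h2]
      exact Subgroup.map_top_of_surjective _ Φ.symm.surjective

theorem CenData.main {G : Type*} [Group G] [Finite G] {z : G}
    {QC : Subgroup ↥(Subgroup.centralizer ({z} : Set G))} {m : ℕ} {L : Type*} [Group L]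
    (hzm : z ∈ Subgroup.centralizer ({z} : Set G))
    (d : CenData ↥(Subgroup.centralizer ({z} : Set G)) ⟨z, hzm⟩ QC m L)
    (Q : Subgroup G)
    (hQ : Q = (Cfsg.pCore 2 ↥(Subgroup.centralizer ({z} : Set G))).map
      (Subgroup.centralizer ({z} : Set G)).subtype) :
    Cfsg.IsExtraspecial 2 ↥Q ∧ Nat.card ↥Q = m ∧
    (∀ x : G, x ∈ (Subgroup.center ↥Q).map Q.subtype ↔ x = 1 ∨ x = z) ∧
    Subgroup.centralizer (Q : Set G) = (Subgroup.center ↥Q).map Q.subtype ∧
    Subgroup.centralizer (((Subgroup.center ↥Q).map Q.subtype : Subgroup G) : Set G) ≤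
      Subgroup.normalizer (Q : Set G) ∧
    ∃ K : Subgroup G, K ≤ Subgroup.centralizer ({z} : Set G) ∧ Q ⊓ K = ⊥ ∧
      Q ⊔ K = Subgroup.centralizer ({z} : Set G) ∧ Nonempty (↥K ≃* L) := by
  have : Fact (Nat.Prime 2) := ⟨Nat.prime_two⟩
  rw [d.core] at hQ
  subst hQ
  have hinj : Function.Injective (Subgroup.centralizer ({z} : Set G)).subtype :=
    Subtype.val_injective
  have hzQ : z ∈ QC.map (Subgroup.centralizer ({z} : Set G)).subtype := ⟨⟨z, hzm⟩, d.zmem, rfl⟩
  have hcent : ∀ x : G, x ∈ Subgroup.centralizer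
      ((QC.map (Subgroup.centralizer ({z} : Set G)).subtype : Subgroup G) : Set G) ↔
        x = 1 ∨ x = z := by
    intro x
    constructor
    · intro hx
      rw [Subgroup.mem_centralizer_iff] at hx
      have hxC : x ∈ Subgroup.centralizer ({z} : Set G) := by
        rw [Subgroup.mem_centralizer_iff]
        intro y hy
        rw [Set.mem_singleton_iff] at hy
        subst hy
        exact hx _ hzQ
      have h1 := d.cent ⟨x, hxC⟩ (fun q hq => by
        apply Subtype.ext
        exact (hx q.1 ⟨q, hq, rfl⟩).symm)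
      rcases h1 with h | h
      · left; exact congrArg Subtype.val h
      · right; exact congrArg Subtype.val h
    · rintro (rfl | rfl)
      · exact Subgroup.one_mem _
      · rw [Subgroup.mem_centralizer_iff]
        rintro y ⟨q, hq, rfl⟩
        exact (Subgroup.mem_centralizer_iff.1 q.2 x rfl).symm
  have hcenter : ∀ x : G,
      x ∈ (Subgroup.center ↥(QC.map (Subgroup.centralizer ({z} : Set G)).subtype)).map
        (QC.map (Subgroup.centralizer ({z} : Set G)).subtype).subtype ↔ x = 1 ∨ x = z := by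
    intro x
    constructor
    · rintro ⟨c, hc, rfl⟩
      apply (hcent _).1
      rw [Subgroup.mem_centralizer_iff]
      intro y hy
      rw [SetLike.mem_coe, Subgroup.mem_center_iff] at hc
      exact congrArg Subtype.val (hc ⟨y, hy⟩)
    · intro hx
      have hxQ : x ∈ QC.map (Subgroup.centralizer ({z} : Set G)).subtype := by
        rcases hx with rfl | rfl
        · exact Subgroup.one_mem _
        · exact hzQ
      refine ⟨⟨x, hxQ⟩, ?_, rfl⟩
      rw [SetLike.mem_coe, Subgroup.mem_center_iff]
      intro y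
      apply Subtype.ext
      have h1 := (hcent x).2 hx
      rw [Subgroup.mem_centralizer_iff] at h1
      exact h1 y.1 y.2
  refine ⟨?_, ?_, hcenter, ?_, ?_, ?_⟩
  · exact isExtraspecial_congr (QC.equivMapOfInjective _ hinj) d.extra
  · rw [← d.card]
    exact Subgroup.card_map_of_injective hinj
  · ext x
    rw [hcent, hcenter]
  · intro g hg
    rw [Subgroup.mem_centralizer_iff] at hg
    have hgC : g ∈ Subgroup.centralizer ({z} : Set G) := by
      rw [Subgroup.mem_centralizer_iff]
      intro y hy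
      rw [Set.mem_singleton_iff] at hy
      subst hy
      exact hg _ ((hcenter _).2 (Or.inr rfl))
    have hN : QC.Normal := by
      rw [← d.core]; exact Subgroup.sSup_normal _ (fun _ hN => hN.1)
    rw [Subgroup.mem_normalizer_iff]
    intro h
    constructor
    · rintro ⟨q, hq, rfl⟩
      exact ⟨⟨g, hgC⟩ * q * ⟨g, hgC⟩⁻¹, hN.conj_mem q hq _, rfl⟩
    · rintro ⟨q, hq, hqe⟩
      refine ⟨⟨g, hgC⟩⁻¹ * q * ⟨g, hgC⟩, ?_, ?_⟩
      · have := hN.conj_mem q hq ⟨g, hgC⟩⁻¹
        rwa [inv_inv] at this
      · show g⁻¹ * (q : G) * g = h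
        have hqe' : (q : G) = g * h * g⁻¹ := hqe
        rw [hqe']; group
  · obtain ⟨KC, h1, h2, ⟨f⟩⟩ := d.compl
    refine ⟨KC.map (Subgroup.centralizer ({z} : Set G)).subtype, ?_, ?_, ?_,
      ⟨(KC.equivMapOfInjective _ hinj).symm.trans f⟩⟩
    · rintro x ⟨k, -, rfl⟩; exact k.2
    · rw [← Subgroup.map_inf _ _ _ hinj, h1, Subgroup.map_bot]
    · rw [← Subgroup.map_sup, h2, ← MonoidHom.range_eq_map, Subgroup.range_subtype]

end Cfsg.Agent.Lib.Helper6.TG
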